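import Cfsg.Agent.TISmallDegree.Constituents

/-!
# Groups with a character of small degree and a Sylow subgroup with constant centralisers

`linear_and_normal_complement`: no proper normal subgroup above `P` and a non-principal irreducible
character of degree `x`, `x² + 1 < |P|`, force `x = 1` and a normal `p`-complement.
`normal_of_faithful`: a faithful character of such a degree forces `P` to be normal.
-/

set_option autoImplicit false
set_option linter.style.haveILetI false
set_option linter.unusedSectionVars false

namespace CfsgLib.TISmallDegree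

open CfsgLib.Characters
open CfsgLib.PrincipalBlock (trivChar)

universe u

theorem charDegree_eq_deg {G : Type u} [Group G] [Fintype G] (χ : Cfsg.IrrCharacter G) :
    Cfsg.charDegree (χ : G → ℂ) = deg χ := by
  simp [Cfsg.charDegree, deg_spec]

theorem linear_and_normal_complement {G : Type u} [Group G] [Fintype G] {p : ℕ} [Fact p.Prime]
    {P : Sylow p G} (hs : IsStar P) (hK : NoProper P) {χ : Cfsg.IrrCharacter G}
    (hχ : χ ≠ trivChar G) (hx : deg χ ^ 2 + 1 < Nat.card (P : Subgroup G)) :
    deg χ = 1 ∧ ∃ N : Subgroup G, N.Normal ∧ N.index = Nat.card (P : Subgroup G) := by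
  letI : Fintype (CC P) := Fintype.ofFinite _
  have he := ee_eq_one hs hK hχ hx
  refine ⟨linear_of_ee_one hs hK hχ hx he, ?_⟩
  have hle : NN P ≤ CC P := Subgroup.relIndex_eq_one.1 he
  exact ⟨(MonoidHom.transferSylow P hle).ker, inferInstance,
    (MonoidHom.ker_transferSylow_isComplement' P hle).symm.index_eq_card⟩

theorem normal_of_faithful_aux (n : ℕ) : ∀ (G : Type u) [Group G] [Fintype G],
    Nat.card G = n → ∀ (p : ℕ) [Fact p.Prime] (P : Sylow p G), IsStar P →
    ∀ (χ : G → ℂ), Cfsg.IsCharacter G χ → (∀ g : G, χ g = χ 1 → g = 1) →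
    ∀ d : ℕ, χ 1 = (d : ℂ) → d ^ 2 + 1 < Nat.card (P : Subgroup G) → (P : Subgroup G).Normal := by
  induction n using Nat.strong_induction_on with
  | _ n ih =>
    intro G _ _ hn p _ P hs χ hχ hfaith d hd hdeg
    set K := Subgroup.normalClosure ((P : Subgroup G) : Set G) with hKdef
    have hPK : (P : Subgroup G) ≤ K := Subgroup.le_normalClosure
    by_cases hK : K = ⊤
    · have hno : NoProper P := fun L hL hPL =>
        top_le_iff.1 (hK ▸ Subgroup.normalClosure_le_normal hPL)
      obtain ⟨m, hm⟩ := exists_nat_coeff hχ
      have hlin : ∀ ψ : Cfsg.IrrCharacter G, m ψ ≠ 0 → (ψ : G → ℂ) 1 = 1 := by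
        intro ψ hψ
        by_cases ht : ψ = trivChar G
        · subst ht; rfl
        · have hle : deg ψ ≤ d := by
            have h1 : ((∑ φ : Cfsg.IrrCharacter G, m φ * deg φ : ℕ) : ℂ) = d := by
              rw [← hd, hm, Finset.sum_apply]
              push_cast
              exact Finset.sum_congr rfl fun φ _ => by rw [Pi.smul_apply, smul_eq_mul, deg_spec]
            rw [← Nat.cast_injective h1]
            exact (Nat.le_mul_of_pos_left _ (Nat.pos_of_ne_zero hψ)).trans
              (Finset.single_le_sum (f := fun φ => m φ * deg φ) (fun _ _ => Nat.zero_le _)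
                (Finset.mem_univ ψ))
          have h2 : deg ψ ^ 2 + 1 < Nat.card (P : Subgroup G) :=
            (Nat.add_le_add_right (Nat.pow_le_pow_left hle 2) 1).trans_lt hdeg
          rw [deg_spec, (linear_and_normal_complement hs hno ht h2).1, Nat.cast_one]
      have hcomm : ∀ a b : G, a * b = b * a := by
        intro a b
        have h : χ (a * b * a⁻¹ * b⁻¹) = χ 1 := by
          rw [hm, Finset.sum_apply, Finset.sum_apply]
          refine Finset.sum_congr rfl fun ψ _ => ?_
          by_cases hψ : m ψ = 0
          · simp [hψ]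
          · obtain ⟨f, hf⟩ := exists_hom_of_degree_one (isCharacter_of_isIrr ψ.2) (hlin ψ hψ)
            have hab : f (a * b * a⁻¹ * b⁻¹) = 1 := by
              rw [map_mul, map_mul, map_mul, map_inv, map_inv, mul_comm (f a) (f b),
                mul_inv_cancel_right, mul_inv_cancel]
            simp [hf, hab]
        have h1 := hfaith _ h
        calc a * b = (a * b * a⁻¹ * b⁻¹) * (b * a) := by group
          _ = b * a := by rw [h1, one_mul]
      exact ⟨fun y hy g => by rw [hcomm g y, mul_inv_cancel_right]; exact hy⟩
    · letI : Fintype K := Fintype.ofFinite _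
      have hlt : Nat.card K < n := hn ▸ lt_of_le_of_ne
        (Nat.le_of_dvd Nat.card_pos (Subgroup.card_subgroup_dvd_card K))
        fun h => hK ((Subgroup.card_eq_iff_eq_top K).1 h)
      set P' : Sylow p K := P.subtype hPK with hP'
      have hcoe : (P' : Subgroup K) = (P : Subgroup G).subgroupOf K := rfl
      have hmap : (P' : Subgroup K).map K.subtype = (P : Subgroup G) := by
        rw [hcoe, Subgroup.map_subgroupOf_eq_of_le hPK]
      have hs' : IsStar P' := by
        intro x hx hx1
        have hx' : (x : G) ∈ (P : Subgroup G) := Subgroup.mem_subgroupOf.1 (hcoe ▸ hx)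
        have hxne : (x : G) ≠ 1 := fun e => hx1 (Subtype.ext e)
        ext g
        rw [Subgroup.mem_centralizer_singleton_iff, Subgroup.mem_centralizer_iff]
        constructor
        · intro h y hy
          have hg : (g : G) ∈ Subgroup.centralizer ({(x : G)} : Set G) :=
            Subgroup.mem_centralizer_singleton_iff.2 (congrArg Subtype.val h :)
          rw [hs _ hx' hxne] at hg
          exact Subtype.ext (Subgroup.mem_centralizer_iff.1 hg _
            (Subgroup.mem_subgroupOf.1 (hcoe ▸ hy)))
        · intro h
          exact (h x hx).symm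
      have hcard : Nat.card (P' : Subgroup K) = Nat.card (P : Subgroup G) := by
        rw [Nat.card_congr (Subgroup.equivMapOfInjective (P' : Subgroup K) K.subtype
          (Subgroup.subtype_injective K)).toEquiv, hmap]
      haveI : (P' : Subgroup K).Normal := ih _ hlt K rfl p P' hs' (fun k : K => χ k)
        (isCharacter_restrict K hχ) (fun g hg => Subtype.ext (hfaith _ hg)) d hd
        (hcard ▸ hdeg)
      haveI : (P' : Subgroup K).Characteristic := P'.characteristic_of_normal inferInstance
      rw [← hmap]
      infer_instance

/-- A faithful character of small degree forces the Sylow subgroup to be normal. -/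
theorem normal_of_faithful {G : Type u} [Group G] [Finite G] {p : ℕ} [Fact p.Prime]
    {P : Sylow p G} (hs : IsStar P) {χ : G → ℂ} (hχ : Cfsg.IsCharacter G χ)
    (hfaith : ∀ g : G, χ g = χ 1 → g = 1)
    (hdeg : Cfsg.charDegree χ ^ 2 + 1 < Nat.card (P : Subgroup G)) :
    (P : Subgroup G).Normal := by
  letI := Fintype.ofFinite G
  obtain ⟨d, hd⟩ := exists_degree hχ
  have : Cfsg.charDegree χ = d := by simp [Cfsg.charDegree, hd]
  exact normal_of_faithful_aux _ G rfl p P hs χ hχ hfaith d hd (this ▸ hdeg)

end CfsgLib.TISmallDegree
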