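import Cfsg.Agent.Characters.Linear
import Cfsg.Agent.Characters.Generalized
import Cfsg.Agent.OddOrderChar.Reciprocity
import Cfsg.Agent.OddOrderChar.CyclicDual
import Mathlib.GroupTheory.Transfer
import Mathlib.GroupTheory.Index

/-!
# Sylow subgroups whose non-identity elements all have the same centraliser: setting

`C` is the centraliser of the Sylow subgroup `P`, `piP` the projection of `C` onto `P`, `om θ` the
character of `P` below an irreducible character `θ` of `C`, `lam f` the extension of `f` to `C`.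
-/

set_option autoImplicit false
set_option linter.style.haveILetI false
set_option linter.unusedSectionVars false

namespace CfsgLib.TISmallDegree

open CfsgLib.Characters
open scoped ComplexConjugate

universe u

variable {G : Type u} [Group G] [Finite G] {p : ℕ} [Fact p.Prime]

/-- Every non-identity element of `P` has centraliser `C(P)`. -/
def IsStar (P : Sylow p G) : Prop :=
  ∀ x ∈ (P : Subgroup G), x ≠ 1 →
    Subgroup.centralizer ({x} : Set G) = Subgroup.centralizer ((P : Subgroup G) : Set G)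

/-- The centraliser of `P`. -/
abbrev CC (P : Sylow p G) : Subgroup G := Subgroup.centralizer ((P : Subgroup G) : Set G)

/-- The normaliser of `P`. -/
abbrev NN (P : Sylow p G) : Subgroup G := Subgroup.normalizer ((P : Subgroup G) : Set G)

/-- The characters of `P`. -/
abbrev DD (P : Sylow p G) : Type u := (P : Subgroup G) →* ℂˣ

variable {P : Sylow p G} (hs : IsStar P)

include hs in
theorem le_CC : (P : Subgroup G) ≤ CC P := by
  intro x hx
  rcases eq_or_ne x 1 with rfl | h
  · exact one_mem _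
  · rw [CC, ← hs x hx h]
    exact Subgroup.mem_centralizer_singleton_iff.2 rfl

include hs in
theorem comm_of_mem {x y : G} (hx : x ∈ (P : Subgroup G)) (hy : y ∈ (P : Subgroup G)) :
    x * y = y * x := Subgroup.mem_centralizer_iff.1 (le_CC hs hy) x hx

theorem comm_CC {c y : G} (hc : c ∈ CC P) (hy : y ∈ (P : Subgroup G)) : y * c = c * y :=
  Subgroup.mem_centralizer_iff.1 hc y hy

theorem CC_le_NN : CC P ≤ NN P := by
  intro c hc
  rw [NN, Subgroup.mem_normalizer_iff]
  intro y
  constructor
  · intro hy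
    rwa [← comm_CC hc hy, mul_inv_cancel_right]
  · intro hy
    have h := comm_CC hc hy
    rw [inv_mul_cancel_right] at h
    rwa [← mul_left_cancel h] at hy

theorem conj_mem_CC {g c : G} (hg : g ∈ NN P) (hc : c ∈ CC P) : g * c * g⁻¹ ∈ CC P := by
  rw [CC, Subgroup.mem_centralizer_iff]
  intro y hy
  have h := comm_CC hc ((Subgroup.mem_normalizer_iff''.1 hg y).1 hy)
  calc y * (g * c * g⁻¹) = g * ((g⁻¹ * y * g) * c) * g⁻¹ := by group
    _ = g * (c * (g⁻¹ * y * g)) * g⁻¹ := by rw [h]
    _ = g * c * g⁻¹ * y := by group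

instance CC_normal : ((CC P).subgroupOf (NN P)).Normal :=
  ⟨fun c hc g => Subgroup.mem_subgroupOf.2 (by simpa using conj_mem_CC g.2 hc)⟩

include hs in
theorem exists_piExp : ∃ k : ℕ, (∀ c ∈ CC P, c ^ k ∈ (P : Subgroup G)) ∧
    (∀ c ∈ CC P, ∀ d ∈ CC P, (c * d) ^ k = c ^ k * d ^ k) ∧
    ∀ x ∈ (P : Subgroup G), x ^ k = x := by
  let H : Subgroup (CC P) := (P : Subgroup G).subgroupOf (CC P)
  haveI : IsMulCommutative H := ⟨⟨fun a b => Subtype.ext (Subtype.ext
    (comm_of_mem hs (Subgroup.mem_subgroupOf.1 a.2) (Subgroup.mem_subgroupOf.1 b.2)))⟩⟩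
  open scoped IsMulCommutative in
  let τ : CC P →* H := MonoidHom.transfer (MonoidHom.id H)
  have key : ∀ (g : CC P) (k : ℕ) (g₀ : CC P),
      g₀⁻¹ * g ^ k * g₀ ∈ H → g₀⁻¹ * g ^ k * g₀ = g ^ k := by
    intro g k g₀ hk
    set y := g₀⁻¹ * g ^ k * g₀ with hy
    have h : y * g₀ = g₀ * y := Subtype.ext (comm_CC g₀.2 (Subgroup.mem_subgroupOf.1 hk))
    have : g ^ k = g₀ * y * g₀⁻¹ := by rw [hy]; group
    rw [this, ← h, mul_inv_cancel_right]
  have hτ : ∀ g : CC P, ((τ g : H) : CC P) = g ^ H.index := fun g => by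
    open scoped IsMulCommutative in
    exact congrArg Subtype.val (MonoidHom.transfer_eq_pow (MonoidHom.id H) g (key g))
  have hco : (H.index).Coprime (Nat.card (P : Subgroup G)) := by
    obtain ⟨n, hn⟩ := P.2.exists_card_eq
    rw [hn]
    refine Nat.Coprime.pow_right _ ?_
    rw [Nat.coprime_comm, (Fact.out : p.Prime).coprime_iff_not_dvd]
    exact fun h => P.not_dvd_index (h.trans (Subgroup.relIndex_dvd_index_of_le (le_CC hs)))
  have hexp : ∃ l : ℕ, H.index * l ≡ 1 [MOD Nat.card (P : Subgroup G)] := by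
    refine ⟨((ZMod.unitOfCoprime _ hco : (ZMod (Nat.card (P : Subgroup G)))ˣ)⁻¹ : _ˣ).1.val, ?_⟩
    haveI : NeZero (Nat.card (P : Subgroup G)) := ⟨Nat.card_pos.ne'⟩
    rw [← ZMod.natCast_eq_natCast_iff, Nat.cast_mul, ZMod.natCast_zmod_val, Nat.cast_one]
    exact (ZMod.unitOfCoprime _ hco).mul_inv
  obtain ⟨l, hl⟩ := hexp
  refine ⟨H.index * l, fun c hc => ?_, fun c hc d hd => ?_, fun x hx => ?_⟩
  · rw [pow_mul]
    refine Subgroup.pow_mem _ ?_ l
    have := (τ ⟨c, hc⟩).2
    rw [Subgroup.mem_subgroupOf, hτ] at this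
    simpa using this
  · have h := congrArg (fun t : H => ((t : CC P) : G)) (map_mul τ ⟨c, hc⟩ ⟨d, hd⟩)
    have hc' := (τ ⟨c, hc⟩).2
    have hd' := (τ ⟨d, hd⟩).2
    rw [Subgroup.mem_subgroupOf, hτ] at hc' hd'
    simp only [Subgroup.coe_mul, hτ, SubmonoidClass.coe_pow] at h hc' hd'
    rw [pow_mul, pow_mul, pow_mul, h]
    exact Commute.mul_pow (comm_of_mem hs hc' hd') l
  · have h1 : x ^ orderOf x = 1 := pow_orderOf_eq_one x
    have h2 : orderOf x ∣ Nat.card (P : Subgroup G) := Subgroup.orderOf_dvd_natCard _ hx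
    rw [pow_eq_pow_iff_modEq.2 (hl.of_dvd h2), pow_one]

/-- The exponent projecting `C` onto `P`. -/
noncomputable def piExp (hs : IsStar P) : ℕ := (exists_piExp hs).choose

theorem pow_piExp_mem {c : G} (hc : c ∈ CC P) : c ^ piExp hs ∈ (P : Subgroup G) :=
  (exists_piExp hs).choose_spec.1 c hc

theorem pow_piExp_self {x : G} (hx : x ∈ (P : Subgroup G)) : x ^ piExp hs = x :=
  (exists_piExp hs).choose_spec.2.2 x hx

/-- The projection of `C` onto `P`. -/
noncomputable def piP (hs : IsStar P) : CC P →* (P : Subgroup G) where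
  toFun c := ⟨(c : G) ^ piExp hs, pow_piExp_mem hs c.2⟩
  map_one' := Subtype.ext (one_pow _)
  map_mul' c d := Subtype.ext ((exists_piExp hs).choose_spec.2.1 c c.2 d d.2)

/-- The inclusion of `P` in `C`. -/
def incl (hs : IsStar P) : (P : Subgroup G) →* CC P := Subgroup.inclusion (le_CC hs)

theorem coe_piP (c : CC P) : ((piP hs c : (P : Subgroup G)) : G) = (c : G) ^ piExp hs := rfl

theorem piP_incl (y : (P : Subgroup G)) : piP hs (incl hs y) = y :=
  Subtype.ext (pow_piExp_self hs y.2)

theorem incl_comm (y : (P : Subgroup G)) (c : CC P) : incl hs y * c = c * incl hs y :=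
  Subtype.ext (comm_CC c.2 y.2)

/-- The kernel of the projection, the `p'`-elements of `C`. -/
noncomputable abbrev AA (hs : IsStar P) : Subgroup (CC P) := (piP hs).ker

/-- `C` is the product of `A` and `P`. -/
noncomputable def split (hs : IsStar P) : AA hs × (P : Subgroup G) ≃ CC P where
  toFun z := z.1 * incl hs z.2
  invFun c := (⟨c * (incl hs (piP hs c))⁻¹, by
    rw [MonoidHom.mem_ker, map_mul, map_inv, piP_incl, mul_inv_cancel]⟩, piP hs c)
  left_inv z := by
    have h : piP hs (z.1 * incl hs z.2) = z.2 := by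
      rw [map_mul, MonoidHom.mem_ker.1 z.1.2, one_mul, piP_incl]
    refine Prod.ext (Subtype.ext ?_) h
    simp only [h, mul_inv_cancel_right]
  right_inv c := inv_mul_cancel_right c _

theorem card_CC : Nat.card (CC P) = Nat.card (AA hs) * Nat.card (P : Subgroup G) := by
  rw [← Nat.card_prod, Nat.card_congr (split hs)]

/-- Conjugation by an element of the normaliser. -/
def cj (P : Sylow p G) (g : NN P) : CC P ≃* CC P where
  toFun c := ⟨(g : G)⁻¹ * c * g, by simpa using conj_mem_CC (inv_mem g.2) c.2⟩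
  invFun c := ⟨(g : G) * c * (g : G)⁻¹, conj_mem_CC g.2 c.2⟩
  left_inv c := Subtype.ext (by group)
  right_inv c := Subtype.ext (by group)
  map_mul' c d := Subtype.ext (by push_cast; group)

theorem coe_cj (g : NN P) (c : CC P) : ((cj P g c : CC P) : G) = (g : G)⁻¹ * c * g := rfl

/-- Conjugation on `P`. -/
def cjP (P : Sylow p G) (g : NN P) : (P : Subgroup G) →* (P : Subgroup G) where
  toFun y := ⟨(g : G)⁻¹ * y * g, (Subgroup.mem_normalizer_iff''.1 g.2 y).1 y.2⟩
  map_one' := Subtype.ext (by simp)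
  map_mul' c d := Subtype.ext (by push_cast; group)

theorem coe_cjP (g : NN P) (y : (P : Subgroup G)) :
    ((cjP P g y : (P : Subgroup G)) : G) = (g : G)⁻¹ * y * g := rfl

instance : SMul (NN P) (DD P) := ⟨fun g f => f.comp (cjP P g)⟩

theorem smul_DD (g : NN P) (f : DD P) (y : (P : Subgroup G)) : (g • f) y = f (cjP P g y) := rfl

instance : MulAction (NN P) (DD P) where
  one_smul f := MonoidHom.ext fun y => by
    rw [smul_DD]; congr 1; exact Subtype.ext (by simp [coe_cjP])
  mul_smul g g' f := MonoidHom.ext fun y => by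
    rw [smul_DD, smul_DD, smul_DD]; congr 1; exact Subtype.ext (by simp [coe_cjP, mul_assoc])

theorem piP_cj (g : NN P) (c : CC P) : piP hs (cj P g c) = cjP P g (piP hs c) :=
  Subtype.ext (by
    rw [coe_piP, coe_cj, coe_cjP, coe_piP]
    have h := conj_pow (a := (g : G)⁻¹) (b := (c : G)) (i := piExp hs)
    rw [inv_inv] at h
    exact h)

theorem cj_incl (g : NN P) (y : (P : Subgroup G)) :
    cj P g (incl hs y) = incl hs (cjP P g y) := rfl

theorem smul_one_DD (g : NN P) : g • (1 : DD P) = 1 := rfl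

include hs in
/-- The normaliser acts semiregularly on the non-trivial characters of `P`. -/
theorem mem_CC_of_smul_eq {g : NN P} {f : DD P} (hf : f ≠ 1) (h : g • f = f) :
    (g : G) ∈ CC P := by
  by_contra hg
  let Δ : ↥(P : Subgroup G) → ↥(P : Subgroup G) := fun y => y⁻¹ * cjP P g y
  have hinj : Function.Injective Δ := by
    intro y z hyz
    by_contra hne
    have hfix : cjP P g (z * y⁻¹) = z * y⁻¹ := by
      have e : y⁻¹ * cjP P g y = z⁻¹ * cjP P g z := hyz
      rw [map_mul, map_inv, inv_mul_eq_iff_eq_mul.1 e.symm, mul_assoc, mul_assoc, mul_inv_cancel,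
        mul_one]
    have hw : ((z * y⁻¹ : (P : Subgroup G)) : G) ≠ 1 := by
      rw [Ne, OneMemClass.coe_eq_one, mul_inv_eq_one]
      exact fun e => hne e.symm
    refine hg (?_ : (g : G) ∈ Subgroup.centralizer ((P : Subgroup G) : Set G))
    rw [← hs _ (z * y⁻¹).2 hw]
    refine Subgroup.mem_centralizer_singleton_iff.2 ?_
    have e := congrArg Subtype.val hfix
    rw [coe_cjP] at e
    conv_lhs => rw [← e]
    group
  refine hf (MonoidHom.ext fun y => ?_)
  obtain ⟨z, rfl⟩ := Finite.surjective_of_injective hinj y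
  have e := DFunLike.congr_fun h z
  rw [smul_DD] at e
  simp [Δ, map_mul, map_inv, e]

include hs in
theorem stabilizer_eq {f : DD P} (hf : f ≠ 1) :
    MulAction.stabilizer (NN P) f = (CC P).subgroupOf (NN P) := by
  refine le_antisymm (fun g hg => Subgroup.mem_subgroupOf.2 (mem_CC_of_smul_eq hs hf hg))
    fun g hg => ?_
  refine MonoidHom.ext fun y => ?_
  rw [smul_DD]
  congr 1
  refine Subtype.ext ?_
  rw [coe_cjP, mul_assoc, comm_CC (Subgroup.mem_subgroupOf.1 hg) y.2, inv_mul_cancel_left]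

/-- The index `|N(P) : C(P)|`. -/
noncomputable def ee (P : Sylow p G) : ℕ := (CC P).relIndex (NN P)

theorem ee_pos : 0 < ee P := Nat.pos_of_ne_zero Subgroup.index_ne_zero_of_finite

theorem card_NN : Nat.card (NN P) = ee P * Nat.card (CC P) := by
  rw [← Nat.card_congr (Subgroup.subgroupOfEquivOfLe (CC_le_NN (P := P))).toEquiv, ee,
    Subgroup.relIndex, mul_comm, Subgroup.card_mul_index]

include hs in
theorem ncard_orbit {f : DD P} (hf : f ≠ 1) : (MulAction.orbit (NN P) f).ncard = ee P := by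
  rw [← MulAction.index_stabilizer, stabilizer_eq hs hf]; rfl

theorem card_DD (hs : IsStar P) : Nat.card (DD P) = Nat.card (P : Subgroup G) := by
  haveI : IsMulCommutative (P : Subgroup G) :=
    ⟨⟨fun a b => Subtype.ext (comm_of_mem hs a.2 b.2)⟩⟩
  open scoped IsMulCommutative in
  haveI : NeZero (Monoid.exponent (P : Subgroup G) : ℂ) :=
    ⟨Nat.cast_ne_zero.2 Monoid.exponent_ne_zero_of_finite⟩
  open scoped IsMulCommutative in
  exact CommGroup.card_monoidHom_of_hasEnoughRootsOfUnity _ _

instance : Finite (DD P) := Finite.of_equiv _ linearCharEquiv.symm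

include hs in
/-- The index `|N(P) : C(P)|` divides `|P| - 1`. -/
theorem ee_dvd : ee P ∣ Nat.card (P : Subgroup G) - 1 := by
  classical
  haveI := Fintype.ofFinite (DD P)
  have h1 : ∀ f ∈ (Finset.univ.erase (1 : DD P)), MulAction.orbit (NN P) f ⊆
      ((Finset.univ.erase (1 : DD P) : Finset (DD P)) : Set (DD P)) := by
    rintro f hf _ ⟨g, rfl⟩
    simp only [Finset.coe_erase, Finset.coe_univ, Set.mem_sdiff, Set.mem_univ, true_and,
      Set.mem_singleton_iff]
    intro e
    refine (Finset.mem_erase.1 hf).1 ?_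
    calc f = g⁻¹ • (g • f) := (inv_smul_smul g f).symm
      _ = 1 := by rw [show g • f = 1 from e, smul_one_DD]
  rw [← card_DD hs, Nat.card_eq_fintype_card, ← Finset.card_univ,
    ← Finset.card_erase_of_mem (Finset.mem_univ (1 : DD P)),
    Finset.card_eq_sum_card_fiberwise (f := fun f => MulAction.orbit (NN P) f)
      (t := (Finset.univ.erase (1 : DD P)).image fun f => MulAction.orbit (NN P) f)
      (fun f hf => Finset.mem_image_of_mem _ hf)]
  refine Finset.dvd_sum fun o ho => ?_
  obtain ⟨f, hf, rfl⟩ := Finset.mem_image.1 ho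
  refine dvd_of_eq ?_
  rw [← ncard_orbit hs (Finset.mem_erase.1 hf).1, ← Set.ncard_coe_finset]
  congr 1
  ext f'
  simp only [Finset.coe_filter, Set.mem_ofPred_eq]
  refine ⟨fun h => ⟨h1 f hf h, MulAction.orbit_eq_iff.2 h⟩, fun h => ?_⟩
  rw [← h.2]
  exact MulAction.mem_orbit_self _

/-! ### Characters of `C` -/

variable [Fintype (CC P)]

theorem exists_om (θ : Cfsg.IrrCharacter (CC P)) :
    ∃ f : DD P, ∀ (c : CC P) (y : (P : Subgroup G)),
      (θ : CC P → ℂ) (c * incl hs y) = (f y : ℂ) * (θ : CC P → ℂ) c := by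
  obtain ⟨n, ρ, hρ, hθ⟩ := θ.2
  have hy : ∀ y : (P : Subgroup G), incl hs y ∈ Subgroup.center (CC P) := fun y =>
    Subgroup.mem_center_iff.2 fun c => (incl_comm hs y c).symm
  choose s hs' using fun y => central_scalar ρ (hy y)
  haveI := nontrivial_of_isIrreducible ρ
  have hmap : ∀ a b : ℂ, a • (LinearMap.id : (Fin n → ℂ) →ₗ[ℂ] _) = b • LinearMap.id → a = b := by
    intro a b hab
    obtain ⟨v, hv⟩ := exists_ne (0 : Fin n → ℂ)
    exact smul_left_injective ℂ hv (LinearMap.congr_fun hab v)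
  let f : (P : Subgroup G) →* ℂ :=
    { toFun := s
      map_one' := hmap _ _ (by rw [← hs', map_one, map_one, one_smul]; rfl)
      map_mul' := fun y z => hmap _ _ (by
        rw [← hs', map_mul, map_mul, hs', hs', smul_mul_smul_comm, ← Module.End.one_eq_id,
          one_mul]) }
  refine ⟨f.toHomUnits, fun c y => ?_⟩
  rw [MonoidHom.coe_toHomUnits, ← hθ, Representation.character, map_mul, hs', mul_smul_comm,
    ← Module.End.one_eq_id, mul_one, map_smul, smul_eq_mul]
  rfl

/-- The character of `P` below `θ`. -/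
noncomputable def om (θ : Cfsg.IrrCharacter (CC P)) : DD P := (exists_om hs θ).choose

theorem om_spec (θ : Cfsg.IrrCharacter (CC P)) (c : CC P) (y : (P : Subgroup G)) :
    (θ : CC P → ℂ) (c * incl hs y) = (om hs θ y : ℂ) * (θ : CC P → ℂ) c :=
  (exists_om hs θ).choose_spec c y

theorem om_unique {θ : Cfsg.IrrCharacter (CC P)} {f : DD P}
    (h : ∀ (c : CC P) (y : (P : Subgroup G)),
      (θ : CC P → ℂ) (c * incl hs y) = (f y : ℂ) * (θ : CC P → ℂ) c) : om hs θ = f := by
  refine MonoidHom.ext fun y => Units.ext ?_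
  have h1 := h 1 y
  rw [om_spec] at h1
  exact mul_right_cancel₀ (irr_one_ne_zero θ.2) h1

/-- The extension of a character of `P` to `C`. -/
noncomputable def lam (f : DD P) : Cfsg.IrrCharacter (CC P) :=
  ⟨fun c => (f (piP hs c) : ℂ), isIrr_linChar (f.comp (piP hs))⟩

theorem lam_apply (f : DD P) (c : CC P) : (lam hs f : CC P → ℂ) c = (f (piP hs c) : ℂ) := rfl

theorem om_lam (f : DD P) : om hs (lam hs f) = f := om_unique hs fun c y => by
  rw [lam_apply, lam_apply, map_mul, piP_incl, map_mul, Units.val_mul, mul_comm]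

/-- The conjugate of a character of `C`. -/
noncomputable def cjChar (g : NN P) (θ : Cfsg.IrrCharacter (CC P)) : Cfsg.IrrCharacter (CC P) :=
  ⟨fun c => (θ : CC P → ℂ) (cj P g c),
    CfsgLib.OddOrderChar.isIrrCharacter_comp_equiv (cj P g) θ.2⟩

theorem om_cjChar (g : NN P) (θ : Cfsg.IrrCharacter (CC P)) :
    om hs (cjChar g θ) = g • om hs θ := om_unique hs fun c y => by
  show (θ : CC P → ℂ) (cj P g (c * incl hs y)) = _
  rw [map_mul, cj_incl, om_spec]
  rfl

end CfsgLib.TISmallDegree
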