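import Cfsg.Agent.TISmallDegree.Critical

/-!
# The constituents of `χ χ̄` in the critical case, and the final contradiction
-/

set_option autoImplicit false
set_option linter.style.haveILetI false
set_option linter.unusedSectionVars false

namespace CfsgLib.TISmallDegree

open CfsgLib.Characters
open CfsgLib.PrincipalBlock (trivChar trivChar_apply charKer mem_charKer)
open scoped ComplexConjugate

universe u

variable {G : Type u} [Group G] [Fintype G] {p : ℕ} [Fact p.Prime] {P : Sylow p G} (hs : IsStar P)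
  [Fintype (CC P)]

include hs in
/-- When the degree is `e`, the constituents of `χ χ̄` restricted to `C` are linear. -/
theorem constituent_linear {χ ψ : Cfsg.IrrCharacter G} (hne : ∃ f ∈ psupp hs χ, f ≠ 1)
    (hx : deg χ ^ 2 + 1 < Nat.card (P : Subgroup G)) (hxe : deg χ = ee P)
    (hψ : cW χ ψ ≠ 0) {θ : Cfsg.IrrCharacter (CC P)} (hθ : mult ψ θ ≠ 0) :
    deg θ = 1 ∧ (om hs θ = 1 → θ = trivChar (CC P)) := by
  classical
  obtain ⟨hcard, hmult, hinj, -⟩ := small_constituents hs hne hx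
  have hlin : ∀ η ∈ msupp (P := P) χ, (η : CC P → ℂ) 1 = 1 := by
    intro η hη
    rw [deg_spec]
    norm_cast
    by_contra h
    have hd := deg_eq_sum (P := P) χ
    rw [hxe, ← Finset.sum_subset (Finset.subset_univ (msupp (P := P) χ))
      fun θ _ hθ' => by rw [not_not.1 fun h => hθ' (mem_msupp.2 h), zero_mul]] at hd
    have hlt := Finset.sum_lt_sum (s := msupp (P := P) χ) (f := fun _ => 1)
      (g := fun θ => mult χ θ * deg θ)
      (fun i hi => Nat.one_le_iff_ne_zero.2 (mul_ne_zero (mem_msupp.1 hi) (deg_pos i).ne'))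
      ⟨η, hη, by rw [hmult η hη, one_mul]; have := deg_pos η; omega⟩
    rw [← Finset.card_eq_sum_ones, hcard, ← hd] at hlt
    exact hlt.false
  have hne' : Cfsg.classInner (fun c : CC P => absSq χ c) (θ : CC P → ℂ) ≠ 0 := by
    rw [classInner_absSq_restrict, Nat.cast_ne_zero, Ne, Finset.sum_eq_zero_iff]
    exact fun h0 => mul_ne_zero hψ hθ (h0 ψ (Finset.mem_univ _))
  rw [classInner_absSq_eq hs hmult] at hne'
  obtain ⟨⟨i, j⟩, hij, hne''⟩ := Finset.exists_ne_zero_of_sum_ne_zero hne'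
  rw [Finset.mem_product] at hij
  obtain ⟨fi, hfi⟩ := exists_hom_of_degree_one (isCharacter_of_isIrr i.2) (hlin i hij.1)
  obtain ⟨fj, hfj⟩ := exists_hom_of_degree_one (isCharacter_of_isIrr j.2) (hlin j hij.2)
  have hfun : (fun c => (i : CC P → ℂ) c * conj ((j : CC P → ℂ) c)) =
      fun c => ((fi * fj⁻¹ : CC P →* ℂˣ) c : ℂ) := by
    funext c
    have h1 : ‖(fj c : ℂ)‖ = 1 := Complex.norm_eq_one_of_pow_eq_one (n := Nat.card (CC P))
      (by rw [← Units.val_pow_eq_pow_val, ← map_pow, pow_card_eq_one', map_one, Units.val_one])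
      Nat.card_pos.ne'
    rw [hfi, hfj, ← Complex.inv_eq_conj h1]
    simp
  have hθeq : (θ : CC P → ℂ) = fun c => ((fi * fj⁻¹ : CC P →* ℂˣ) c : ℂ) := by
    by_contra hne3
    refine hne'' ?_
    rw [show (fun c => ((i, j).1 : CC P → ℂ) c * conj (((i, j).2 : CC P → ℂ) c)) = _ from hfun]
    exact classInner_isIrr_ne (isIrr_linChar _) θ.2 (Ne.symm hne3)
  refine ⟨?_, fun hom => ?_⟩
  · have h := congrFun hθeq 1
    rw [deg_spec, map_one, Units.val_one] at h
    exact_mod_cast h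
  · have hom' := om_eq_of_classInner hs hne''
    rw [hom] at hom'
    have hij' : i = j := hinj i hij.1 j hij.2 (mul_inv_eq_one.1 hom'.symm)
    subst hij'
    have : fi = fj := MonoidHom.ext fun c => Units.ext (by
      have := congrFun (hfi.symm.trans hfj) c; exact this)
    subst this
    exact Subtype.ext (hθeq.trans (funext fun c => by simp))

theorem eq_mul_incl (c : CC P) : ∃ a : AA hs, c = (a : CC P) * incl hs (piP hs c) :=
  ⟨((split hs).symm c).1, ((split hs).apply_symm_apply c).symm⟩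

include hs in
/-- A constituent with one fixed vector and `e` further linear characters contains the trivial
extension of a character of `P`. -/
theorem exists_lam_mult {ψ : Cfsg.IrrCharacter G} (hQ : ee P ^ 2 + 1 < Nat.card (P : Subgroup G))
    (hlin : ∀ θ, mult ψ θ ≠ 0 → deg θ = 1 ∧ (om hs θ = 1 → θ = trivChar (CC P)))
    (hb : mult ψ (trivChar (CC P)) = 1)
    (hT : ∑ θ ∈ (msupp (P := P) ψ).erase (trivChar (CC P)), mult ψ θ = ee P)
    (hT1 : ∀ θ ∈ (msupp (P := P) ψ).erase (trivChar (CC P)), mult ψ θ = 1) :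
    ∃ f : DD P, f ≠ 1 ∧ mult ψ (lam hs f) = 1 := by
  classical
  haveI : Fintype (AA hs) := Fintype.ofFinite _
  set T := (msupp (P := P) ψ).erase (trivChar (CC P)) with hTdef
  have hTc : T.card = ee P := by
    rw [Finset.card_eq_sum_ones, ← hT]
    exact Finset.sum_congr rfl fun θ hθ => (hT1 θ hθ).symm
  by_contra hcon
  push Not at hcon
  have htr : trivChar (CC P) ∈ msupp (P := P) ψ := mem_msupp.2 (by rw [hb]; exact one_ne_zero)
  have hrest : ∀ c : CC P, (ψ : G → ℂ) c = 1 + ∑ θ ∈ T, (θ : CC P → ℂ) c := by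
    intro c
    rw [restrict_eq, ← Finset.sum_subset (Finset.subset_univ (msupp (P := P) ψ))
      fun θ _ hθ => by rw [not_not.1 fun h => hθ (mem_msupp.2 h)]; simp,
      ← Finset.add_sum_erase _ _ htr, hb, trivChar_apply, Nat.cast_one, one_mul]
    congr 1
    exact Finset.sum_congr rfl fun θ hθ => by rw [hT1 θ hθ, Nat.cast_one, one_mul]
  have hzero : ∀ θ ∈ T, ∑ a : AA hs, (θ : CC P → ℂ) (a : CC P) = 0 := by
    intro θ hθ
    obtain ⟨hθt, hθm⟩ := Finset.mem_erase.1 hθ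
    obtain ⟨hd, hom⟩ := hlin θ (mem_msupp.1 hθm)
    obtain ⟨φ, hφ⟩ := exists_hom_of_degree_one (isCharacter_of_isIrr θ.2)
      (by rw [deg_spec, hd, Nat.cast_one])
    obtain ⟨a₀, ha₀⟩ : ∃ a₀ : AA hs, φ a₀ ≠ 1 := by
      by_contra hall
      push Not at hall
      refine hcon (om hs θ) (fun e => hθt (hom e)) ?_
      rw [show lam hs (om hs θ) = θ from ?_, hT1 θ hθ]
      refine Subtype.ext (funext fun c => ?_)
      obtain ⟨a, ha⟩ := eq_mul_incl hs c
      conv_rhs => rw [ha, om_spec hs, hφ]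
      simp only [hall a, Units.val_one, mul_one, lam_apply]
    have h1 : (φ a₀ : ℂ) * ∑ a : AA hs, (θ : CC P → ℂ) (a : CC P) =
        ∑ a : AA hs, (θ : CC P → ℂ) (a : CC P) := by
      rw [Finset.mul_sum]
      exact Fintype.sum_equiv (Equiv.mulLeft a₀) _ _ fun a => by simp [hφ, map_mul]
    by_contra h0
    exact ha₀ (Units.ext ((mul_eq_right₀ h0).mp h1))
  have hnorm : ∀ θ ∈ T, ∀ c : CC P, ‖(θ : CC P → ℂ) c‖ ≤ 1 := by
    intro θ hθ c
    obtain ⟨hd, -⟩ := hlin θ (mem_msupp.1 (Finset.mem_erase.1 hθ).2)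
    obtain ⟨n, ρ, -, hρ⟩ := θ.2
    have hn : (Module.finrank ℂ (Fin n → ℂ) : ℂ) = (1 : ℕ) := by
      rw [← Representation.char_one ρ, hρ, deg_spec, hd]
    rw [← hρ]
    refine (norm_char_le ρ c).trans ?_
    rw [Nat.cast_injective hn, Nat.cast_one]
  have hsum : ∑ a : AA hs, ‖(ψ : G → ℂ) (a : CC P)‖ ^ 2 ≤
      (Nat.card (AA hs) : ℝ) * (1 + (ee P : ℝ) ^ 2) := by
    have h0 : ∑ a : AA hs, (∑ θ ∈ T, (θ : CC P → ℂ) (a : CC P)).re = 0 := by
      rw [← Complex.re_sum, Finset.sum_comm, Finset.sum_eq_zero hzero, Complex.zero_re]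
    have hpt : ∀ a : AA hs, ‖(ψ : G → ℂ) (a : CC P)‖ ^ 2 ≤
        1 + (ee P : ℝ) ^ 2 + 2 * (∑ θ ∈ T, (θ : CC P → ℂ) (a : CC P)).re := by
      intro a
      rw [hrest]
      set S := ∑ θ ∈ T, (θ : CC P → ℂ) (a : CC P)
      have hS : ‖S‖ ≤ ee P := by
        refine (norm_sum_le _ _).trans ((Finset.sum_le_sum fun θ hθ => hnorm θ hθ _).trans ?_)
        rw [Finset.sum_const, nsmul_eq_mul, mul_one, hTc]
      have hS2 : ‖S‖ ^ 2 ≤ (ee P : ℝ) ^ 2 := pow_le_pow_left₀ (norm_nonneg _) hS 2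
      rw [Complex.sq_norm] at hS2 ⊢
      rw [Complex.normSq_add, map_one, one_mul, Complex.conj_re]
      linarith
    refine (Finset.sum_le_sum fun a _ => hpt a).trans (le_of_eq ?_)
    rw [Finset.sum_add_distrib, ← Finset.mul_sum, h0, Finset.sum_const, Finset.card_univ,
      nsmul_eq_mul, Nat.card_eq_fintype_card, mul_zero, add_zero]
  have hn : nsq (P := P) ψ = ee P + 1 := by
    rw [nsq, ← Finset.sum_subset (Finset.subset_univ (msupp (P := P) ψ))
      (fun θ _ hθ => by rw [not_not.1 fun h => hθ (mem_msupp.2 h)]; rfl),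
      ← Finset.add_sum_erase _ _ htr, hb, one_pow, ← hTdef,
      Finset.sum_congr rfl (g := fun θ => mult ψ θ) (fun θ hθ => by rw [hT1 θ hθ]; rfl), hT,
      add_comm]
  have hlt := (sum_AA_gt hs ψ).trans_le (add_le_add hsum le_rfl)
  rw [card_CC hs, hn, Nat.cast_mul] at hlt
  push_cast at hlt
  have hA : (0 : ℝ) < Nat.card (AA hs) := Nat.cast_pos.2 Nat.card_pos
  have hQ' : ((ee P : ℝ)) ^ 2 + 1 < Nat.card (P : Subgroup G) := by exact_mod_cast hQ
  nlinarith

include hs in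
theorem sum_absSq_NN [Fintype (NN P)] {χ : Cfsg.IrrCharacter G}
    (hne : ∃ f ∈ psupp hs χ, f ≠ 1) (hx : deg χ ^ 2 + 1 < Nat.card (P : Subgroup G)) :
    ∑ g : NN P, ‖(χ : G → ℂ) g‖ ^ 2 = Nat.card (NN P) := by
  classical
  obtain ⟨-, hN, -⟩ := small_structure hs hne hx
  have h1 := one_notMem_psupp hs hne hx
  have e : ∑ g : NN P, ‖(χ : G → ℂ) g‖ ^ 2 = ∑ c : CC P, ‖(χ : G → ℂ) c‖ ^ 2 := by
    rw [← Finset.sum_subset (Finset.subset_univ
      (Finset.univ.filter fun g : NN P => (g : G) ∈ CC P)) fun g _ hg => by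
      rw [apply_eq_zero hs h1 g fun hm => hg (by simp [hm])]; simp]
    refine Finset.sum_bij (fun g hg => (⟨(g : G), (Finset.mem_filter.1 hg).2⟩ : CC P))
      (fun _ _ => Finset.mem_univ _) (fun a _ b _ h => Subtype.ext (congrArg Subtype.val h :))
      (fun c _ => ⟨⟨c, CC_le_NN c.2⟩, by simp, rfl⟩) fun g _ => rfl
  rw [e, sum_CC_norm_sq, hN, card_NN, Nat.cast_mul, mul_comm]

include hs in
/-- A constituent with one fixed vector of `C` has multiplicity one in `χ χ̄`. -/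
theorem cW_le_one {χ ψ : Cfsg.IrrCharacter G} (hne : ∃ f ∈ psupp hs χ, f ≠ 1)
    (hx : deg χ ^ 2 + 1 < Nat.card (P : Subgroup G)) (hb : mult ψ (trivChar (CC P)) = 1) :
    cW χ ψ ≤ 1 := by
  classical
  haveI : Fintype (NN P) := Fintype.ofFinite _
  set Cs := (CC P).subgroupOf (NN P) with hCs
  obtain ⟨m, hm⟩ := exists_nat_coeff (isCharacter_restrict (NN P) (isCharacter_of_isIrr ψ.2))
  have hsumC : ∑ g : NN P, (if g ∈ Cs then (ψ : G → ℂ) g else 0) = Nat.card (CC P) := by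
    rw [← Finset.sum_filter]
    refine Eq.trans (Finset.sum_bij (t := (Finset.univ : Finset (CC P)))
      (g := fun c : CC P => (ψ : G → ℂ) c) (fun g hg => (⟨(g : G),
      Subgroup.mem_subgroupOf.1 (Finset.mem_filter.1 hg).2⟩ : CC P))
      (fun _ _ => Finset.mem_univ _) ?_ ?_ fun g _ => rfl) ?_
    · intro a _ b _ h
      exact Subtype.ext (congrArg Subtype.val h :)
    · intro c _
      exact ⟨⟨(c : G), CC_le_NN c.2⟩, by simp [hCs, Subgroup.mem_subgroupOf], rfl⟩
    have h := mult_spec ψ (trivChar (CC P))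
    rw [hb, Nat.cast_one, Cfsg.classInner, inv_mul_eq_one₀ natCard_ne_zero] at h
    rw [h]
    exact Finset.sum_congr rfl fun c _ => by rw [trivChar_apply, map_one, mul_one]
  have hexp : ∑ g : NN P, (if g ∈ Cs then (ψ : G → ℂ) g else 0) = (Nat.card (CC P) : ℂ) *
      ((∑ ξ : Cfsg.IrrCharacter (NN P), if Cs ≤ charKer ξ then m ξ * deg ξ else 0 : ℕ) : ℂ) := by
    have h : ∀ g : NN P, (if g ∈ Cs then (ψ : G → ℂ) g else 0) = ∑ ξ : Cfsg.IrrCharacter (NN P),
        (m ξ : ℂ) * (if g ∈ Cs then (ξ : NN P → ℂ) g else 0) := fun g => by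
      split_ifs
      · have := congrFun hm g
        rw [this, Finset.sum_apply]
        rfl
      · simp
    rw [Finset.sum_congr rfl fun g _ => h g, Finset.sum_comm, Nat.cast_sum, Finset.mul_sum]
    refine Finset.sum_congr rfl fun ξ _ => ?_
    rw [← Finset.mul_sum]
    split_ifs with hk
    · rw [← Finset.sum_filter, Finset.sum_congr rfl fun g hg =>
        (mem_charKer.1 (hk (Finset.mem_filter.1 hg).2) :), Finset.sum_const, nsmul_eq_mul,
        ← Fintype.card_subtype, ← Nat.card_eq_fintype_card,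
        Nat.card_congr (Subgroup.subgroupOfEquivOfLe (CC_le_NN (P := P))).toEquiv, deg_spec]
      push_cast; ring
    · rw [CfsgLib.PrincipalBlock.sum_normal_eq_zero Cs ξ hk]; simp
  rw [hsumC] at hexp
  have hC0 : (Nat.card (CC P) : ℂ) ≠ 0 := Nat.cast_ne_zero.2 Nat.card_pos.ne'
  have hone : (∑ ξ : Cfsg.IrrCharacter (NN P), if Cs ≤ charKer ξ then m ξ * deg ξ else 0) = 1 := by
    have := (mul_eq_left₀ hC0).1 hexp.symm
    exact_mod_cast this
  obtain ⟨ξ, -, hξ⟩ := Finset.exists_ne_zero_of_sum_ne_zero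
    (s := (Finset.univ : Finset (Cfsg.IrrCharacter (NN P))))
    (f := fun ξ => if Cs ≤ charKer ξ then m ξ * deg ξ else 0) (by rw [hone]; exact one_ne_zero)
  have hle := Finset.single_le_sum (f := fun ξ : Cfsg.IrrCharacter (NN P) =>
    if Cs ≤ charKer ξ then m ξ * deg ξ else 0) (fun _ _ => Nat.zero_le _) (Finset.mem_univ ξ)
  rw [hone] at hle
  split_ifs at hξ hle
  · obtain ⟨hmξ, hdξ⟩ := mul_eq_one.1 (le_antisymm hle (Nat.pos_of_ne_zero hξ))
    have hinner : ∀ φ : Cfsg.IrrCharacter G, ∃ k : ℕ,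
        Cfsg.classInner (fun g : NN P => (φ : G → ℂ) g) (ξ : NN P → ℂ) = k := fun φ =>
      classInner_character_irr (isCharacter_restrict (NN P) (isCharacter_of_isIrr φ.2)) ξ.2
    choose k hk using hinner
    have hkψ : k ψ = 1 := by
      apply Nat.cast_injective (R := ℂ)
      rw [← hk, hm, classInner_irr_coeff, hmξ]
    have hW : Cfsg.classInner (fun g : NN P => absSq χ g) (ξ : NN P → ℂ) =
        ((∑ φ : Cfsg.IrrCharacter G, cW χ φ * k φ : ℕ) : ℂ) := by
      have h : (fun g : NN P => absSq χ g) =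
          ∑ φ : Cfsg.IrrCharacter G, (cW χ φ : ℂ) • fun g : NN P => (φ : G → ℂ) g := by
        funext g
        rw [absSq_eq, Finset.sum_apply]
        exact Finset.sum_congr rfl fun φ _ => rfl
      rw [h, classInner_sum_left]
      push_cast
      exact Finset.sum_congr rfl fun φ _ => by rw [classInner_smul_left, hk]
    have hnorm : ‖Cfsg.classInner (fun g : NN P => absSq χ g) (ξ : NN P → ℂ)‖ ≤ 1 := by
      rw [Cfsg.classInner, norm_mul, norm_inv, Complex.norm_natCast]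
      rw [inv_mul_le_iff₀ (Nat.cast_pos.2 Nat.card_pos), mul_one]
      refine (norm_sum_le _ _).trans ((Finset.sum_le_sum fun g _ => ?_).trans
        (le_of_eq (sum_absSq_NN hs hne hx)))
      rw [norm_mul, absSq, norm_mul, RCLike.norm_conj, ← sq, RCLike.norm_conj]
      refine mul_le_of_le_one_right (sq_nonneg _) ?_
      obtain ⟨n, ρ, -, hρ⟩ := ξ.2
      have hn : (Module.finrank ℂ (Fin n → ℂ) : ℂ) = (1 : ℕ) := by
        rw [← Representation.char_one ρ, hρ, deg_spec, hdξ]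
      rw [← hρ]
      refine (norm_char_le ρ g).trans ?_
      rw [Nat.cast_injective hn, Nat.cast_one]
    rw [hW, Complex.norm_natCast, Nat.cast_le_one] at hnorm
    have := Finset.single_le_sum (f := fun φ => cW χ φ * k φ) (fun _ _ => Nat.zero_le _)
      (Finset.mem_univ ψ)
    rw [hkψ, mul_one] at this
    exact this.trans hnorm
  · exact absurd rfl hξ

theorem b_eq_one {Q e b M : ℕ} (he : 2 ≤ e) (hQ : Q = e * e + e + 1) (hb : b < e) (hM : e ≤ M)
    (hMb : M ≤ e * b) (hI : Q * (b ^ 2 + M) < (b + M) ^ 2 + e * Q) : b = 1 := by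
  by_contra hne
  have hb2 : 2 ≤ b := by
    rcases Nat.eq_zero_or_pos b with rfl | h
    · omega
    · omega
  subst hQ
  obtain ⟨u, rfl⟩ := Nat.exists_eq_add_of_le hM
  obtain ⟨r, hr⟩ := Nat.exists_eq_add_of_le hb2
  obtain ⟨v, hv⟩ := Nat.exists_eq_add_of_le hMb
  obtain ⟨w, hw⟩ := Nat.exists_eq_add_of_le hb
  subst hr
  zify at *
  nlinarith [mul_nonneg (Int.natCast_nonneg u) (Int.natCast_nonneg v),
    mul_nonneg (Int.natCast_nonneg r) (Int.natCast_nonneg w),
    mul_nonneg (Int.natCast_nonneg u) (Int.natCast_nonneg r),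
    mul_nonneg (mul_nonneg (Int.natCast_nonneg u) (Int.natCast_nonneg e)) (Int.natCast_nonneg w),
    sq_nonneg ((e : ℤ) - 2), mul_nonneg (Int.natCast_nonneg v) (Int.natCast_nonneg e)]

include hs in
/-- The facts about a non-principal constituent of `χ χ̄` in the critical case. -/
theorem constituent_facts (hK : NoProper P) {χ : Cfsg.IrrCharacter G}
    (hne : ∃ f ∈ psupp hs χ, f ≠ 1) (hx : deg χ ^ 2 + 1 < Nat.card (P : Subgroup G))
    (he : 2 ≤ ee P) (hxe : deg χ = ee P)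
    (hQ : Nat.card (P : Subgroup G) = ee P * ee P + ee P + 1) :
    ∀ ψ : Cfsg.IrrCharacter G, cW χ ψ ≠ 0 → ψ ≠ trivChar G →
      deg ψ = ee P + 1 ∧ mult ψ (trivChar (CC P)) = 1 ∧
      ∃ f : DD P, f ≠ 1 ∧ mult ψ (lam hs f) = 1 := by
  classical
  set tC := trivChar (CC P) with htC
  set E := Finset.univ.erase (trivChar G) with hE
  obtain ⟨hcard, hmult, -, -⟩ := small_constituents hs hne hx
  have hsplit : ∀ ψ, cW χ ψ ≠ 0 → deg ψ = mult ψ tC +
      ∑ θ ∈ (msupp (P := P) ψ).erase tC, mult ψ θ := by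
    intro ψ hψ
    rw [deg_eq_sum (P := P) ψ, ← Finset.add_sum_erase _ _ (Finset.mem_univ tC),
      ← Finset.sum_subset (s₁ := (msupp (P := P) ψ).erase tC)
        (Finset.erase_subset_erase _ (Finset.subset_univ _))
        fun θ hθ hθ' => by
          rw [not_not.1 fun h => hθ' (Finset.mem_erase.2 ⟨Finset.ne_of_mem_erase hθ, mem_msupp.2 h⟩),
            zero_mul]]
    congr 1
    · rw [show deg tC = 1 from Nat.cast_injective (R := ℂ) (by rw [← deg_spec, Nat.cast_one]; rfl),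
        mul_one]
    · exact Finset.sum_congr rfl fun θ hθ => by
        rw [(constituent_linear hs hne hx hxe hψ (mem_msupp.1 (Finset.mem_of_mem_erase hθ))).1,
          mul_one]
  have hMge : ∀ ψ, cW χ ψ ≠ 0 → ψ ≠ trivChar G →
      ee P ≤ ((msupp (P := P) ψ).erase tC).card := by
    intro ψ hψ hψt
    obtain ⟨f, hf, hf1⟩ := exists_psupp_ne_one hs hK hψt
    rw [← ncard_orbit hs hf1]
    refine (Set.ncard_le_ncard (t := (((msupp (P := P) ψ).erase tC).image (om hs) : Set (DD P)))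
      ?_ (Finset.finite_toSet _)).trans ((Set.ncard_coe_finset _).le.trans Finset.card_image_le)
    intro f' hf'
    obtain ⟨θ, hθ, rfl⟩ := (mem_psupp hs).1 (orbit_subset_psupp hs hf hf')
    refine Finset.mem_coe.2 (Finset.mem_image.2 ⟨θ, Finset.mem_erase.2 ⟨?_, mem_msupp.2 hθ⟩, rfl⟩)
    rintro rfl
    obtain ⟨g, hg⟩ := hf'
    refine hf1 ?_
    calc f = g⁻¹ • (g • f) := (inv_smul_smul g f).symm
      _ = 1 := by rw [show g • f = _ from hg, om_trivChar, smul_one_DD]
  have hcM : ∀ ψ : Cfsg.IrrCharacter G, ((msupp (P := P) ψ).erase tC).card ≤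
      ∑ θ ∈ (msupp (P := P) ψ).erase tC, mult ψ θ := fun ψ => by
    rw [Finset.card_eq_sum_ones]
    exact Finset.sum_le_sum fun θ hθ =>
      Nat.one_le_iff_ne_zero.2 (mem_msupp.1 (Finset.mem_of_mem_erase hθ))
  -- the totals
  have hb : ∑ ψ ∈ E, cW χ ψ * mult ψ tC = ee P - 1 := by
    have h := sum_cW_mult_one hs hmult
    rw [hcard, ← Finset.add_sum_erase _ _ (Finset.mem_univ (trivChar G)), cW_trivChar,
      mult_trivChar, if_pos rfl] at h
    rw [hE, htC]; omega
  have hd : ∑ ψ ∈ E, cW χ ψ * deg ψ = ee P * ee P - 1 := by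
    have h : ((∑ ψ : Cfsg.IrrCharacter G, cW χ ψ * deg ψ : ℕ) : ℂ) = ((ee P * ee P : ℕ) : ℂ) := by
      have h := absSq_eq χ 1
      rw [absSq, deg_spec, Complex.conj_natCast, hxe] at h
      push_cast
      rw [h]
      exact Finset.sum_congr rfl fun ψ _ => by rw [deg_spec]
    have h' := Nat.cast_injective h
    rw [← Finset.add_sum_erase _ _ (Finset.mem_univ (trivChar G)), cW_trivChar,
      show deg (trivChar G) = 1 from Nat.cast_injective (R := ℂ)
        (by rw [← deg_spec, Nat.cast_one]; rfl)] at h'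
    rw [hE]; omega
  -- a constituent with `M ≤ e b`
  have hclaim : ∀ ψ, cW χ ψ ≠ 0 → ψ ≠ trivChar G → deg ψ ≤ (ee P + 1) * mult ψ tC →
      mult ψ tC = 1 ∧ deg ψ = ee P + 1 := by
    intro ψ hψ hψt hle
    have h1 := hsplit ψ hψ
    have h2 := (hMge ψ hψ hψt).trans (hcM ψ)
    set b := mult ψ tC with hbdef
    set M := ∑ θ ∈ (msupp (P := P) ψ).erase tC, mult ψ θ
    have hbe : b < ee P := by
      have := Finset.single_le_sum (f := fun ψ => cW χ ψ * mult ψ tC) (fun _ _ => Nat.zero_le _)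
        (Finset.mem_erase.2 ⟨hψt, Finset.mem_univ ψ⟩)
      rw [← hE, hb] at this
      simp only [← hbdef] at this
      have : b ≤ cW χ ψ * b := Nat.le_mul_of_pos_left b (Nat.pos_of_ne_zero hψ)
      omega
    have hMb : M ≤ ee P * b := by rw [add_mul, one_mul] at hle; omega
    have hnsq : b ^ 2 + M ≤ nsq (P := P) ψ := by
      rw [nsq, ← Finset.add_sum_erase _ _ (Finset.mem_univ tC)]
      refine Nat.add_le_add_left ?_ _
      refine (Finset.sum_le_sum fun θ hθ => (Nat.le_self_pow two_ne_zero _)).trans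
        (Finset.sum_le_sum_of_subset (Finset.erase_subset_erase _ (Finset.subset_univ _)))
    have hI := basic_ineq_deg hs ψ
    have hI' : Nat.card (P : Subgroup G) * (b ^ 2 + M) <
        (b + M) ^ 2 + ee P * Nat.card (P : Subgroup G) := by
      rw [← h1]
      exact (Nat.mul_le_mul_left _ hnsq).trans_lt hI
    have hb1 := b_eq_one he hQ hbe h2 hMb hI'
    refine ⟨hb1, ?_⟩
    rw [hb1, mul_one] at hMb
    omega
  -- equality throughout
  have hall : ∀ ψ ∈ E, cW χ ψ ≠ 0 → deg ψ ≤ (ee P + 1) * mult ψ tC := by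
    by_contra hcon
    push Not at hcon
    obtain ⟨ψ₀, hψ₀E, hψ₀, hlt⟩ := hcon
    have hs' : ∑ ψ ∈ E, cW χ ψ * ((ee P + 1) * mult ψ tC) < ∑ ψ ∈ E, cW χ ψ * deg ψ := by
      refine Finset.sum_lt_sum (fun ψ hψE => ?_)
        ⟨ψ₀, hψ₀E, Nat.mul_lt_mul_of_pos_left hlt (Nat.pos_of_ne_zero hψ₀)⟩
      rcases Nat.eq_zero_or_pos (cW χ ψ) with h0 | h0
      · simp [h0]
      · refine Nat.mul_le_mul_left _ ?_
        by_contra hlt'
        push Not at hlt'
        obtain ⟨h1, h2⟩ := hclaim ψ h0.ne' (Finset.ne_of_mem_erase hψE) hlt'.le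
        rw [h1, h2, mul_one] at hlt'
        exact hlt'.false
    rw [Finset.sum_congr rfl (g := fun ψ => (ee P + 1) * (cW χ ψ * mult ψ tC))
      (fun ψ _ => by ring), ← Finset.mul_sum, hb, hd, Nat.add_mul, Nat.mul_sub, mul_one,
      one_mul] at hs'
    have := Nat.le_mul_self (ee P)
    omega
  intro ψ hψ hψt
  obtain ⟨hb1, hdψ⟩ := hclaim ψ hψ hψt (hall ψ (Finset.mem_erase.2 ⟨hψt, Finset.mem_univ _⟩) hψ)
  have h1 := hsplit ψ hψ
  have hT : ∑ θ ∈ (msupp (P := P) ψ).erase tC, mult ψ θ = ee P := by omega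
  refine ⟨hdψ, hb1, exists_lam_mult hs (by rw [hQ, sq]; omega)
    (fun θ hθ => constituent_linear hs hne hx hxe hψ hθ) hb1 hT fun θ hθ => ?_⟩
  by_contra hne1
  have h2 := hMge ψ hψ hψt
  have h3 := Finset.sum_lt_sum (s := (msupp (P := P) ψ).erase tC) (f := fun _ => 1)
    (g := fun θ => mult ψ θ)
    (fun i hi => Nat.one_le_iff_ne_zero.2 (mem_msupp.1 (Finset.mem_of_mem_erase hi)))
    ⟨θ, hθ, by have := mem_msupp.1 (Finset.mem_of_mem_erase hθ); omega⟩
  rw [← Finset.card_eq_sum_ones, hT] at h3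
  omega

include hs in
/-- A non-principal character of degree `x` with `x² + 1 < |P|` forces `e = 1`. -/
theorem ee_eq_one (hK : NoProper P) {χ : Cfsg.IrrCharacter G} (hχ : χ ≠ trivChar G)
    (hx : deg χ ^ 2 + 1 < Nat.card (P : Subgroup G)) : ee P = 1 := by
  classical
  haveI := Fintype.ofFinite (DD P)
  by_contra hne1
  have he : 2 ≤ ee P := by have := ee_pos (P := P); omega
  have hne := exists_psupp_ne_one hs hK hχ
  obtain ⟨hxe, hlt⟩ := card_lt_of_two_le hs hK hχ hx he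
  obtain ⟨hcard, hmult, -, -⟩ := small_constituents hs hne hx
  have hQ : Nat.card (P : Subgroup G) = ee P * ee P + ee P + 1 := by
    obtain ⟨t, ht⟩ := ee_dvd hs
    have hQ1 : 1 ≤ Nat.card (P : Subgroup G) := Nat.card_pos
    rw [hxe, sq] at hx
    rw [sq, add_mul, mul_add, mul_one, one_mul] at hlt
    have h1 : ee P * ee P < ee P * t := by omega
    have h2 : ee P * t < ee P * (ee P + 2) := by rw [mul_add]; omega
    have h3 := Nat.lt_of_mul_lt_mul_left h1
    have h4 := Nat.lt_of_mul_lt_mul_left h2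
    have h5 : t = ee P + 1 := by omega
    rw [h5, mul_add, mul_one] at ht
    omega
  have hfacts := constituent_facts hs hK hne hx he hxe hQ
  set T := (Finset.univ.erase (trivChar G)).filter fun ψ => cW χ ψ ≠ 0 with hT
  have hTfacts : ∀ ψ ∈ T, deg ψ = ee P + 1 ∧ mult ψ (trivChar (CC P)) = 1 ∧ cW χ ψ = 1 := by
    intro ψ hψ
    obtain ⟨hψE, hc⟩ := Finset.mem_filter.1 hψ
    obtain ⟨h1, h2, -⟩ := hfacts ψ hc (Finset.ne_of_mem_erase hψE)
    exact ⟨h1, h2, le_antisymm (cW_le_one hs hne hx h2) (Nat.pos_of_ne_zero hc)⟩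
  have hTcard : T.card = ee P - 1 := by
    have h := sum_cW_mult_one hs hmult
    rw [hcard, ← Finset.add_sum_erase _ _ (Finset.mem_univ (trivChar G)), cW_trivChar,
      mult_trivChar, if_pos rfl,
      ← Finset.sum_filter_of_ne (p := fun ψ => cW χ ψ ≠ 0) fun ψ _ h => left_ne_zero_of_mul h,
      ← hT, Finset.sum_congr rfl (g := fun _ => 1)
        (fun ψ hψ => by rw [(hTfacts ψ hψ).2.1, (hTfacts ψ hψ).2.2, mul_one]),
      ← Finset.card_eq_sum_ones] at h
    omega
  set Λ : Finset (DD P) := insert 1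
    ((msupp (P := P) χ).offDiag.image fun ij => om hs ij.1 * (om hs ij.2)⁻¹) with hΛ
  have hΛcard : Λ.card + ee P ≤ ee P * ee P + 1 := by
    have h1 : Λ.card ≤ ee P * ee P - ee P + 1 :=
      (Finset.card_insert_le _ _).trans (Nat.add_le_add_right
        (Finset.card_image_le.trans (le_of_eq (by rw [Finset.offDiag_card, hcard]))) 1)
    have := Nat.le_mul_self (ee P)
    omega
  have hQD : (Finset.univ : Finset (DD P)).card = ee P * ee P + ee P + 1 := by
    rw [Finset.card_univ, ← Nat.card_eq_fintype_card, card_DD hs, hQ]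
  have hex : ∀ X : Finset (DD P), X.card ≤ ee P → ∃ f, f ∉ Λ ∧ f ∉ X := by
    intro X hX
    obtain ⟨f, -, hf⟩ := Finset.exists_mem_notMem_of_card_lt_card (s := Λ ∪ X)
      (t := (Finset.univ : Finset (DD P))) ((Finset.card_union_le _ _).trans_lt (by omega))
    exact ⟨f, fun h => hf (Finset.mem_union_left _ h), fun h => hf (Finset.mem_union_right _ h)⟩
  obtain ⟨f₁, hf₁, -⟩ := hex ∅ (Nat.zero_le _)
  have hf₁1 : f₁ ≠ 1 := fun e => hf₁ (e ▸ Finset.mem_insert_self _ _)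
  obtain ⟨f₂, hf₂, hf₂o⟩ := hex (Set.toFinite (MulAction.orbit (NN P) f₁)).toFinset
    (by rw [← Set.ncard_eq_toFinset_card _ _, ncard_orbit hs hf₁1])
  have hf₂1 : f₂ ≠ 1 := fun e => hf₂ (e ▸ Finset.mem_insert_self _ _)
  rw [Set.Finite.mem_toFinset] at hf₂o
  have hsub : ∀ ψ, cW χ ψ ≠ 0 → ∀ f, f ∉ Λ → mult ψ (lam hs f) = 0 := fun ψ hc f hf => by
    by_contra h
    exact hf (psupp_constituent_subset hs hmult hc ((mem_psupp hs).2 ⟨_, h, om_lam hs f⟩))
  obtain ⟨ψ₀, hψ₀⟩ : T.Nonempty := Finset.card_pos.1 (by omega)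
  have hc₀ := (Finset.mem_filter.1 hψ₀).2
  obtain ⟨-, hb₀, f₀, hf₀1, hm₀⟩ :=
    hfacts ψ₀ hc₀ (Finset.ne_of_mem_erase (Finset.mem_filter.1 hψ₀).1)
  have hf₀o : ∀ f, f ∉ Λ → f ∉ MulAction.orbit (NN P) f₀ := by
    intro f hf ho
    refine hf (psupp_constituent_subset hs hmult hc₀ (Finset.mem_coe.1
      (orbit_subset_psupp hs ((mem_psupp hs).2 ⟨_, by rw [hm₀]; exact one_ne_zero, om_lam hs f₀⟩)
        ho)))
  have hT1 : ∀ f, f ≠ 1 → f ∉ Λ → ∀ ψ ∈ insert (trivChar G) T, zc hs f ψ = 1 := by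
    intro f hf1 hf ψ hψ
    rcases Finset.mem_insert.1 hψ with rfl | hψ
    · exact zc_trivChar hs hf1
    · rw [zc, (hTfacts ψ hψ).2.1, hsub ψ (Finset.mem_filter.1 hψ).2 f hf]; rfl
  have hself : ∀ f, f ≠ 1 → ∑ ψ : Cfsg.IrrCharacter G, zc hs f ψ * zc hs f ψ = (ee P : ℤ) + 1 :=
    fun f hf => by rw [sum_zc_mul hs hf hf, if_pos (MulAction.mem_orbit_self f)]
  have hne' : ∀ f f', f ≠ 1 → f' ≠ 1 → f ∉ MulAction.orbit (NN P) f' →
      ∑ ψ : Cfsg.IrrCharacter G, zc hs f ψ * zc hs f' ψ = (ee P : ℤ) :=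
    fun f f' hf hf' ho => by rw [sum_zc_mul hs hf hf', if_neg ho, add_zero]
  refine vector_contradiction (ee P : ℤ) (by exact_mod_cast he)
    (fun ψ : Cfsg.IrrCharacter G => (deg ψ : ℤ)) (zc hs f₁) (zc hs f₂) (zc hs f₀)
    (trivChar G) T ψ₀ (fun h => Finset.ne_of_mem_erase (Finset.mem_filter.1 h).1 rfl) hψ₀
    (by rw [hTcard]; omega) (fun ψ => by exact_mod_cast deg_pos ψ)
    (by
      have : deg (trivChar G) = 1 := Nat.cast_injective (R := ℂ)
        (by rw [← deg_spec, Nat.cast_one]; rfl)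
      simp [this])
    (fun ψ hψ => by simp [(hTfacts ψ hψ).1]) (hself _ hf₁1) (hself _ hf₂1) (hself _ hf₀1)
    (hne' _ _ hf₁1 hf₂1 fun h => hf₂o (MulAction.orbit_eq_iff.2 h ▸ MulAction.mem_orbit_self f₂))
    (hne' _ _ hf₁1 hf₀1 (hf₀o _ hf₁)) (hne' _ _ hf₂1 hf₀1 (hf₀o _ hf₂))
    (sum_zc_deg hs _) (sum_zc_deg hs _) (sum_zc_deg hs _) (hT1 _ hf₁1 hf₁) (hT1 _ hf₂1 hf₂)
    (by rw [zc, hb₀, hm₀, sub_self])

end CfsgLib.TISmallDegree
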