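import Cfsg.Agent.TISmallDegree.Basic
import Mathlib.Algebra.Order.Chebyshev

/-!
# The norm inequality on `(P ∖ 1) × A`

For an irreducible character `ψ` of `G`, with `N'` the sum of the squares of the multiplicities in
`ψ` restricted to `C`, one has `(|P| - #supp) N' < e |P|`.
-/

set_option autoImplicit false
set_option linter.style.haveILetI false
set_option linter.unusedSectionVars false

namespace CfsgLib.TISmallDegree

open CfsgLib.Characters
open scoped ComplexConjugate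

universe u

variable {G : Type u} [Group G] [Fintype G] {p : ℕ} [Fact p.Prime] {P : Sylow p G} (hs : IsStar P)
  [Fintype (CC P)]

theorem exists_mult (ψ : Cfsg.IrrCharacter G) (θ : Cfsg.IrrCharacter (CC P)) :
    ∃ m : ℕ, Cfsg.classInner (fun c : CC P => (ψ : G → ℂ) c) (θ : CC P → ℂ) = m :=
  classInner_character_irr (isCharacter_restrict (CC P) (isCharacter_of_isIrr ψ.2)) θ.2

/-- The multiplicity of `θ` in `ψ` restricted to `C`. -/
noncomputable def mult (ψ : Cfsg.IrrCharacter G) (θ : Cfsg.IrrCharacter (CC P)) : ℕ :=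
  (exists_mult ψ θ).choose

theorem mult_spec (ψ : Cfsg.IrrCharacter G) (θ : Cfsg.IrrCharacter (CC P)) :
    Cfsg.classInner (fun c : CC P => (ψ : G → ℂ) c) (θ : CC P → ℂ) = mult ψ θ :=
  (exists_mult ψ θ).choose_spec

theorem restrict_eq (ψ : Cfsg.IrrCharacter G) (c : CC P) :
    (ψ : G → ℂ) c = ∑ θ : Cfsg.IrrCharacter (CC P), (mult ψ θ : ℂ) * (θ : CC P → ℂ) c := by
  have h := congrFun
    (character_expansion (isCharacter_restrict (CC P) (isCharacter_of_isIrr ψ.2))) c
  rw [Finset.sum_apply] at h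
  refine h.trans (Finset.sum_congr rfl fun θ _ => ?_)
  rw [Pi.smul_apply, smul_eq_mul, mult_spec]

theorem mult_cjChar (ψ : Cfsg.IrrCharacter G) (g : NN P) (θ : Cfsg.IrrCharacter (CC P)) :
    mult ψ (cjChar g θ) = mult ψ θ := by
  apply Nat.cast_injective (R := ℂ)
  rw [← mult_spec, ← mult_spec]
  have h1 : (fun c : CC P => (ψ : G → ℂ) c) = fun c : CC P => (ψ : G → ℂ) (cj P g c) := by
    funext c
    rw [coe_cj]
    conv_rhs => rw [show (g : G)⁻¹ * c * g = (g : G)⁻¹ * c * (g : G)⁻¹⁻¹ by rw [inv_inv]]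
    exact (isClassFunction_of_isIrr ψ.2 (c : G) (g : G)⁻¹).symm
  conv_lhs => rw [h1]
  exact CfsgLib.OddOrderChar.classInner_comp_equiv (cj P g) (fun c : CC P => (ψ : G → ℂ) c)
    (θ : CC P → ℂ)

open Classical in
/-- The constituents of `ψ` restricted to `C`. -/
noncomputable def msupp (ψ : Cfsg.IrrCharacter G) : Finset (Cfsg.IrrCharacter (CC P)) :=
  Finset.univ.filter fun θ => mult ψ θ ≠ 0

theorem mem_msupp {ψ : Cfsg.IrrCharacter G} {θ : Cfsg.IrrCharacter (CC P)} :
    θ ∈ msupp ψ ↔ mult ψ θ ≠ 0 := by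
  classical
  simp [msupp]

open Classical in
/-- The characters of `P` in `ψ`. -/
noncomputable def psupp (ψ : Cfsg.IrrCharacter G) : Finset (DD P) := (msupp ψ).image (om hs)

theorem mem_psupp {ψ : Cfsg.IrrCharacter G} {f : DD P} :
    f ∈ psupp hs ψ ↔ ∃ θ, mult ψ θ ≠ 0 ∧ om hs θ = f := by
  classical
  simp [psupp, mem_msupp]

theorem smul_mem_psupp {ψ : Cfsg.IrrCharacter G} {f : DD P} (hf : f ∈ psupp hs ψ) (g : NN P) :
    g • f ∈ psupp hs ψ := by
  obtain ⟨θ, hθ, rfl⟩ := (mem_psupp hs).1 hf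
  exact (mem_psupp hs).2 ⟨cjChar g θ, by rwa [mult_cjChar], om_cjChar hs g θ⟩

/-- The sum of the squares of the multiplicities. -/
noncomputable def nsq (ψ : Cfsg.IrrCharacter G) : ℕ :=
  ∑ θ : Cfsg.IrrCharacter (CC P), mult ψ θ ^ 2

/-- The degree. -/
noncomputable def deg (θ : Cfsg.IrrCharacter G) : ℕ := (exists_degree_pos θ.2).choose

theorem deg_spec (θ : Cfsg.IrrCharacter G) : (θ : G → ℂ) 1 = deg θ :=
  (exists_degree_pos θ.2).choose_spec.2

theorem deg_pos (θ : Cfsg.IrrCharacter G) : 0 < deg θ :=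
  (exists_degree_pos θ.2).choose_spec.1

theorem deg_eq_sum (ψ : Cfsg.IrrCharacter G) :
    deg ψ = ∑ θ : Cfsg.IrrCharacter (CC P), mult ψ θ * deg θ := by
  apply Nat.cast_injective (R := ℂ)
  rw [← deg_spec]
  have h := restrict_eq ψ (1 : CC P)
  rw [OneMemClass.coe_one] at h
  rw [h]
  push_cast
  exact Finset.sum_congr rfl fun θ _ => by rw [deg_spec]

theorem card_psupp_le (ψ : Cfsg.IrrCharacter G) : (psupp hs ψ).card ≤ deg ψ := by
  classical
  refine Finset.card_image_le.trans ?_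
  rw [deg_eq_sum (P := P) ψ, Finset.card_eq_sum_ones]
  exact (Finset.sum_le_sum fun θ hθ => Nat.one_le_iff_ne_zero.2
      (mul_ne_zero (mem_msupp.1 hθ) (deg_pos θ).ne')).trans
    (Finset.sum_le_sum_of_subset (Finset.subset_univ _))

theorem card_psupp_le_nsq (ψ : Cfsg.IrrCharacter G) : (psupp hs ψ).card ≤ nsq (P := P) ψ := by
  classical
  refine Finset.card_image_le.trans ?_
  rw [nsq, Finset.card_eq_sum_ones]
  exact (Finset.sum_le_sum fun θ hθ => Nat.one_le_iff_ne_zero.2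
      (pow_ne_zero _ (mem_msupp.1 hθ))).trans
    (Finset.sum_le_sum_of_subset (Finset.subset_univ _))

theorem sum_CC_sq (F : Cfsg.IrrCharacter (CC P) → ℕ) :
    ∑ c : CC P, ‖∑ θ : Cfsg.IrrCharacter (CC P), (F θ : ℂ) * (θ : CC P → ℂ) c‖ ^ 2 =
      (Nat.card (CC P) : ℝ) * (∑ θ, F θ ^ 2 : ℕ) := by
  classical
  apply Complex.ofReal_injective
  push_cast
  simp only [← Complex.mul_conj']
  set Φ : CC P → ℂ := fun c => ∑ θ, (F θ : ℂ) * (θ : CC P → ℂ) c
  have hΦ : Φ = ∑ θ : Cfsg.IrrCharacter (CC P), (F θ : ℂ) • (θ : CC P → ℂ) := by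
    funext c; simp [Φ, Finset.sum_apply]
  have h : Cfsg.classInner Φ Φ = ∑ θ : Cfsg.IrrCharacter (CC P), (F θ : ℂ) ^ 2 := by
    rw [hΦ, classInner_sum_right]
    refine Finset.sum_congr rfl fun θ _ => ?_
    rw [classInner_smul_right, classInner_irr_coeff, map_natCast, sq]
  rw [Cfsg.classInner] at h
  rw [← h, mul_inv_cancel_left₀ natCard_ne_zero]

theorem sum_CC_norm_sq (ψ : Cfsg.IrrCharacter G) :
    ∑ c : CC P, ‖(ψ : G → ℂ) c‖ ^ 2 = (Nat.card (CC P) : ℝ) * nsq (P := P) ψ := by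
  rw [nsq, ← sum_CC_sq]
  exact Finset.sum_congr rfl fun c _ => by rw [restrict_eq]

theorem norm_DD (f : DD P) (y : (P : Subgroup G)) : ‖(f y : ℂ)‖ = 1 := by
  refine Complex.norm_eq_one_of_pow_eq_one (n := Nat.card (P : Subgroup G)) ?_ Nat.card_pos.ne'
  rw [← Units.val_pow_eq_pow_val, ← map_pow, pow_card_eq_one', map_one, Units.val_one]

include hs in
open Classical in
/-- The contribution of `A`. -/
theorem sum_AA_le [Fintype (AA hs)] (ψ : Cfsg.IrrCharacter G) :
    ∑ a : AA hs, ‖(ψ : G → ℂ) (a : CC P)‖ ^ 2 ≤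
      (psupp hs ψ).card * ((Nat.card (AA hs) : ℝ) * nsq (P := P) ψ) := by
  haveI : Fintype (P : Subgroup G) := Fintype.ofFinite _
  let part : DD P → CC P → ℂ := fun f c => ∑ θ : Cfsg.IrrCharacter (CC P),
    (if om hs θ = f then (mult ψ θ : ℂ) else 0) * (θ : CC P → ℂ) c
  have hsum : ∀ c : CC P, (ψ : G → ℂ) c = ∑ f ∈ psupp hs ψ, part f c := fun c => by
    rw [restrict_eq ψ c, Finset.sum_comm]
    refine Finset.sum_congr rfl fun θ _ => ?_
    rw [← Finset.sum_mul, Finset.sum_ite_eq]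
    split_ifs with h
    · rfl
    · rw [not_not.1 fun hm => h ((mem_psupp hs).2 ⟨θ, hm, rfl⟩), Nat.cast_zero]
  have hpart : ∀ f, ∑ a : AA hs, ‖part f a‖ ^ 2 = (Nat.card (AA hs) : ℝ) *
      (∑ θ : Cfsg.IrrCharacter (CC P), (if om hs θ = f then mult ψ θ else 0) ^ 2 : ℕ) := by
    intro f
    have h := sum_CC_sq (P := P) fun θ => if om hs θ = f then mult ψ θ else 0
    simp only [Nat.cast_ite, Nat.cast_zero] at h
    have h' : ∑ c : CC P, ‖part f c‖ ^ 2 =
        (Nat.card (P : Subgroup G) : ℝ) * ∑ a : AA hs, ‖part f a‖ ^ 2 := by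
      rw [← Fintype.sum_equiv (split hs) (fun z => ‖part f (z.1 * incl hs z.2)‖ ^ 2)
          (fun c => ‖part f c‖ ^ 2) (fun z => rfl), Fintype.sum_prod_type, Finset.mul_sum]
      refine Finset.sum_congr rfl fun a _ => ?_
      rw [Finset.sum_congr rfl (g := fun _ => ‖part f a‖ ^ 2) fun y _ => ?_, Finset.sum_const,
        Finset.card_univ, ← Nat.card_eq_fintype_card, nsmul_eq_mul]
      have e : part f (a * incl hs y) = (f y : ℂ) * part f a := by
        simp only [part, Finset.mul_sum]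
        refine Finset.sum_congr rfl fun θ _ => ?_
        rw [om_spec hs]
        split_ifs with hθ
        · subst hθ; ring
        · simp
      simp only [e, norm_mul, norm_DD, one_mul]
    rw [h', card_CC hs] at h
    push_cast at h ⊢
    refine mul_left_cancel₀ (Nat.cast_ne_zero.2 (Nat.card_pos (α := (P : Subgroup G))).ne') ?_
    rw [h]; ring
  calc ∑ a : AA hs, ‖(ψ : G → ℂ) (a : CC P)‖ ^ 2
      ≤ ∑ a : AA hs, ((psupp hs ψ).card : ℝ) * ∑ f ∈ psupp hs ψ, ‖part f a‖ ^ 2 := by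
        refine Finset.sum_le_sum fun a _ => ?_
        rw [hsum]
        exact (pow_le_pow_left₀ (norm_nonneg _) (norm_sum_le _ _) 2).trans
          sq_sum_le_card_mul_sum_sq
    _ = ((psupp hs ψ).card : ℝ) * ∑ f ∈ psupp hs ψ, ∑ a : AA hs, ‖part f a‖ ^ 2 := by
        rw [← Finset.mul_sum, Finset.sum_comm]
    _ ≤ _ := by
        refine mul_le_mul_of_nonneg_left ?_ (Nat.cast_nonneg _)
        rw [Finset.sum_congr rfl fun f _ => hpart f, ← Finset.mul_sum, ← Nat.cast_sum]
        refine mul_le_mul_of_nonneg_left (Nat.cast_le.2 (le_of_eq ?_)) (Nat.cast_nonneg _)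
        rw [Finset.sum_comm, nsq]
        refine Finset.sum_congr rfl fun θ _ => ?_
        simp only [ite_pow, zero_pow two_ne_zero]
        rw [Finset.sum_ite_eq]
        split_ifs with h
        · rfl
        · rw [not_not.1 fun hm => h ((mem_psupp hs).2 ⟨θ, hm, rfl⟩)]
          simp

include hs in
/-- Only the normaliser fuses elements of `(P ∖ 1) A`. -/
theorem mem_NN_of_conj {c d : CC P} {t : G} (hcU : piP hs c ≠ 1) (hdU : piP hs d ≠ 1)
    (hc : t * (c : G) * t⁻¹ = d) : t ∈ NN P := by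
  have hpi : t * (piP hs c : G) * t⁻¹ = (piP hs d : G) := by
    rw [coe_piP, coe_piP, ← hc, conj_pow]
  have hne : ∀ w : CC P, piP hs w ≠ 1 → ((piP hs w : (P : Subgroup G)) : G) ≠ 1 :=
    fun w hw e => hw (Subtype.ext e)
  have hC : Subgroup.centralizer ({t * (piP hs c : G) * t⁻¹} : Set G) =
      Subgroup.centralizer ({(piP hs c : G)} : Set G) := by
    rw [hpi, hs _ (piP hs d).2 (hne _ hdU), hs _ (piP hs c).2 (hne _ hcU)]
  have hCC : ∀ w : G, w ∈ CC P ↔ t⁻¹ * w * t ∈ CC P := by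
    intro w
    rw [CC, ← hs _ (piP hs c).2 (hne _ hcU)]
    nth_rewrite 1 [← hC]
    simp only [Subgroup.mem_centralizer_singleton_iff]
    constructor <;> intro e
    · calc t⁻¹ * w * t * (piP hs c : G) = t⁻¹ * (w * (t * (piP hs c : G) * t⁻¹)) * t := by
            group
        _ = (piP hs c : G) * (t⁻¹ * w * t) := by rw [e]; group
    · calc w * (t * (piP hs c : G) * t⁻¹) = t * (t⁻¹ * w * t * (piP hs c : G)) * t⁻¹ := by
            group
        _ = t * (piP hs c : G) * t⁻¹ * w := by rw [e]; group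
  rw [NN, Subgroup.mem_normalizer_iff'']
  intro y
  constructor <;> intro hy
  · have hw : t⁻¹ * y * t ∈ CC P := (hCC y).1 (le_CC hs hy)
    have h2 : (t⁻¹ * y * t) ^ piExp hs = t⁻¹ * y * t := by
      have e := conj_pow (a := t⁻¹) (b := y) (i := piExp hs)
      rw [inv_inv] at e
      rw [e, pow_piExp_self hs hy]
    exact h2 ▸ pow_piExp_mem hs hw
  · have hw : y ∈ CC P := (hCC y).2 (le_CC hs hy)
    have h2 : y ^ piExp hs = y := by
      have e := conj_pow (a := t⁻¹) (b := y) (i := piExp hs)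
      rw [inv_inv, pow_piExp_self hs hy] at e
      exact (show y = y ^ piExp hs by simpa [mul_assoc] using e).symm
    exact h2 ▸ pow_piExp_mem hs hw

include hs in
open Classical in
/-- The norm of `ψ` on the conjugates of `(P ∖ 1) A` is less than the norm on `G`. -/
theorem sum_AA_gt [Fintype (AA hs)] (ψ : Cfsg.IrrCharacter G) :
    (Nat.card (CC P) : ℝ) * nsq (P := P) ψ <
      ∑ a : AA hs, ‖(ψ : G → ℂ) (a : CC P)‖ ^ 2 + (ee P : ℝ) * Nat.card (CC P) := by
  set U : Finset (CC P) := Finset.univ.filter fun c => piP hs c ≠ 1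
  have hA : ∑ a : AA hs, ‖(ψ : G → ℂ) (a : CC P)‖ ^ 2 =
      ∑ c ∈ Finset.univ.filter (fun c => piP hs c = 1), ‖(ψ : G → ℂ) (c : G)‖ ^ 2 :=
    (Finset.sum_subtype _ (fun c => by simp [MonoidHom.mem_ker])
      fun c : CC P => ‖(ψ : G → ℂ) (c : G)‖ ^ 2).symm
  rw [← sum_CC_norm_sq, ← Finset.sum_filter_add_sum_filter_not Finset.univ
    (fun c => piP hs c = 1), ← hA, add_lt_add_iff_left]
  -- the double count
  let Φ : G × CC P → G := fun z => z.1 * z.2 * z.1⁻¹
  let f : G → ℝ := fun h => ‖(ψ : G → ℂ) h‖ ^ 2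
  have hf : ∑ h : G, f h = (Nat.card G : ℝ) := by
    apply Complex.ofReal_injective
    have h := classInner_isIrr_self ψ.2
    rw [Cfsg.classInner, inv_mul_eq_one₀ natCard_ne_zero] at h
    push_cast
    simp only [f]
    push_cast
    simp only [← Complex.mul_conj']
    exact h.symm
  have hfib : ∀ h : G, ((((Finset.univ : Finset G) ×ˢ U).filter fun z => Φ z = h).card : ℕ) ≤
      if h = 1 then 0 else Nat.card (NN P) := by
    intro h
    split_ifs with h1
    · subst h1
      rw [Nat.le_zero, Finset.card_eq_zero, Finset.filter_eq_empty_iff]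
      rintro ⟨g, c⟩ hz e
      simp only [Φ, conj_eq_one_iff, OneMemClass.coe_eq_one] at e
      subst e
      simp [U] at hz
    · rcases (((Finset.univ : Finset G) ×ˢ U).filter fun z => Φ z = h).eq_empty_or_nonempty
        with h0 | ⟨⟨g₀, c₀⟩, hz₀⟩
      · simp [h0]
      simp only [Finset.mem_filter, Finset.mem_product, Finset.mem_univ, true_and, U, Φ] at hz₀
      refine (Finset.card_le_card_of_injOn (t := Finset.univ.filter fun t : G => t ∈ NN P)
        (fun z => g₀⁻¹ * z.1) ?_ ?_).trans (le_of_eq ?_)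
      · rintro ⟨g, c⟩ hz
        simp only [Finset.coe_filter, Set.mem_ofPred_eq, Finset.mem_product, Finset.mem_univ,
          Finset.mem_filter, true_and, U, Φ] at hz ⊢
        set t := g₀⁻¹ * g with ht
        have hc : t * (c : G) * t⁻¹ = c₀ := by
          have e := hz.2.trans hz₀.2.symm
          calc t * (c : G) * t⁻¹ = g₀⁻¹ * (g * c * g⁻¹) * g₀ := by rw [ht]; group
            _ = c₀ := by rw [e]; group
        exact mem_NN_of_conj hs hz.1 hz₀.1 hc
      · rintro ⟨g, c⟩ hz ⟨g', c'⟩ hz' e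
        simp only [Finset.coe_filter, Set.mem_ofPred_eq, Finset.mem_product, Φ] at hz hz'
        obtain rfl : g = g' := mul_left_cancel e
        have := hz.2.trans hz'.2.symm
        rw [mul_left_inj, mul_right_inj] at this
        rw [Subtype.ext this]
      · rw [Nat.card_eq_fintype_card, Fintype.card_subtype]
  have hS : (Nat.card G : ℝ) * ∑ c ∈ U, f c ≤ (Nat.card (NN P) : ℝ) * (Nat.card G - f 1) := by
    have h1 : (Nat.card G : ℝ) * ∑ c ∈ U, f c = ∑ z ∈ (Finset.univ : Finset G) ×ˢ U, f (Φ z) := by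
      rw [Finset.sum_product]
      simp only [f, Φ, isClassFunction_of_isIrr ψ.2 _ _]
      simp [Nat.card_eq_fintype_card]
    rw [h1, ← hf, ← Finset.sum_fiberwise' ((Finset.univ : Finset G) ×ˢ U) Φ f,
      ← Finset.sum_erase_eq_sub (Finset.mem_univ (1 : G)), Finset.mul_sum,
      ← Finset.add_sum_erase _ _ (Finset.mem_univ (1 : G))]
    rw [Finset.sum_const, Nat.le_zero.1 ((hfib 1).trans (le_of_eq (if_pos rfl))), zero_smul,
      zero_add]
    refine Finset.sum_le_sum fun h hh => ?_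
    rw [Finset.sum_const, nsmul_eq_mul]
    refine mul_le_mul_of_nonneg_right (Nat.cast_le.2 ?_) (sq_nonneg _)
    exact (hfib h).trans (le_of_eq (if_neg (Finset.ne_of_mem_erase hh)))
  have h1 : 0 < f 1 := by
    simp only [f, deg_spec, Complex.norm_natCast]
    have : (0 : ℝ) < deg ψ := Nat.cast_pos.2 (deg_pos ψ)
    positivity
  have hN : (Nat.card (NN P) : ℝ) = (ee P : ℝ) * Nat.card (CC P) := by
    rw [card_NN]; push_cast; rfl
  have hN0 : (0 : ℝ) < Nat.card (NN P) := Nat.cast_pos.2 Nat.card_pos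
  have hG0 : (0 : ℝ) < Nat.card G := Nat.cast_pos.2 Nat.card_pos
  rw [← hN]
  simp only [f] at hS h1
  nlinarith [hS, h1, hN0, hG0, mul_pos hN0 h1]

include hs in
/-- The basic inequality. -/
theorem basic_ineq (ψ : Cfsg.IrrCharacter G) :
    Nat.card (P : Subgroup G) * nsq (P := P) ψ <
      (psupp hs ψ).card * nsq (P := P) ψ + ee P * Nat.card (P : Subgroup G) := by
  haveI : Fintype (AA hs) := Fintype.ofFinite _
  have h := (sum_AA_gt hs ψ).trans_le (add_le_add (sum_AA_le hs ψ) le_rfl)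
  rw [card_CC hs, Nat.cast_mul] at h
  have hA : (0 : ℝ) < Nat.card (AA hs) := Nat.cast_pos.2 Nat.card_pos
  rify
  nlinarith [h, hA]

include hs in
/-- The inequality with the degree. -/
theorem basic_ineq_deg (ψ : Cfsg.IrrCharacter G) :
    Nat.card (P : Subgroup G) * nsq (P := P) ψ <
      deg ψ ^ 2 + ee P * Nat.card (P : Subgroup G) := by
  haveI : Fintype (AA hs) := Fintype.ofFinite _
  have hpt : ∀ g : G, ‖(ψ : G → ℂ) g‖ ≤ (deg ψ : ℝ) := by
    intro g
    obtain ⟨n, ρ, -, hρ⟩ := ψ.2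
    have hd := deg_spec ψ
    rw [← hρ, Representation.char_one, Nat.cast_inj] at hd
    rw [← hρ, ← hd]
    exact norm_char_le ρ g
  have hle : ∑ a : AA hs, ‖(ψ : G → ℂ) (a : CC P)‖ ^ 2 ≤
      (Nat.card (AA hs) : ℝ) * (deg ψ : ℝ) ^ 2 := by
    refine (Finset.sum_le_sum (g := fun _ => (deg ψ : ℝ) ^ 2) fun (a : AA hs) _ =>
      pow_le_pow_left₀ (norm_nonneg _) (hpt ((a : CC P) : G)) 2).trans (le_of_eq ?_)
    rw [Finset.sum_const, Finset.card_univ, nsmul_eq_mul, Nat.card_eq_fintype_card]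
  have h := (sum_AA_gt hs ψ).trans_le (add_le_add hle le_rfl)
  rw [card_CC hs, Nat.cast_mul] at h
  have hA : (0 : ℝ) < Nat.card (AA hs) := Nat.cast_pos.2 Nat.card_pos
  rify
  nlinarith [h, hA]

/-- If `1` is the only character of `P` in `ψ`, then `P` lies in the kernel. -/
theorem eq_one_of_psupp {ψ : Cfsg.IrrCharacter G} (h : ∀ f ∈ psupp hs ψ, f = 1)
    (y : (P : Subgroup G)) : (ψ : G → ℂ) y = (ψ : G → ℂ) 1 := by
  have e1 := restrict_eq ψ (incl hs y)
  have e2 := restrict_eq ψ (1 : CC P)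
  rw [OneMemClass.coe_one] at e2
  rw [show ((y : G) : G) = ((incl hs y : CC P) : G) from rfl, e1, e2]
  refine Finset.sum_congr rfl fun θ _ => ?_
  by_cases hm : mult ψ θ = 0
  · simp [hm]
  · rw [← one_mul (incl hs y), om_spec hs, h _ ((mem_psupp hs).2 ⟨θ, hm, rfl⟩)]
    simp

include hs in
theorem orbit_subset_psupp {ψ : Cfsg.IrrCharacter G} {f : DD P} (hf : f ∈ psupp hs ψ) :
    MulAction.orbit (NN P) f ⊆ ((psupp hs ψ : Finset (DD P)) : Set (DD P)) := by
  rintro _ ⟨g, rfl⟩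
  exact smul_mem_psupp hs hf g

end CfsgLib.TISmallDegree
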