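import Cfsg.Agent.TISmallDegree.Vanishing

/-!
# The critical case `|P| = e² + e + 1`

For `e ≥ 2` the non-principal constituents of `χ χ̄` have degree `e + 1`, multiplicity one and
contain one non-trivial character of `P` extended trivially to `A`; the functions induced from
`1 - f` then give a contradiction.
-/

set_option autoImplicit false
set_option linter.style.haveILetI false
set_option linter.unusedSectionVars false

namespace CfsgLib.TISmallDegree

open CfsgLib.Characters
open CfsgLib.PrincipalBlock (trivChar trivChar_apply charKer mem_charKer)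
open scoped ComplexConjugate

universe u

variable {G : Type u} [Group G] [Fintype G] {p : ℕ} [Fact p.Prime] {P : Sylow p G} (hs : IsStar P)
  [Fintype (CC P)]

include hs in
theorem one_notMem_psupp {χ : Cfsg.IrrCharacter G} (hne : ∃ f ∈ psupp hs χ, f ≠ 1)
    (hx : deg χ ^ 2 + 1 < Nat.card (P : Subgroup G)) : (1 : DD P) ∉ psupp hs χ := by
  obtain ⟨-, -, f, h1, horb⟩ := small_structure hs hne hx
  intro h
  rw [← Finset.mem_coe, horb] at h
  obtain ⟨g, hg⟩ := h
  apply h1
  calc f = g⁻¹ • (g • f) := (inv_smul_smul g f).symm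
    _ = 1 := by rw [show g • f = 1 from hg, smul_one_DD]

/-- The function `1 - f` on `C`. -/
noncomputable def oneSub (f : DD P) : CC P → ℂ := fun c => 1 - (lam hs f : CC P → ℂ) c

/-- The coefficients of the function induced from `1 - f`. -/
noncomputable def zc (f : DD P) (ψ : Cfsg.IrrCharacter G) : ℤ :=
  (mult ψ (trivChar (CC P)) : ℤ) - mult ψ (lam hs f)

theorem classInner_ind_oneSub (f : DD P) (ψ : Cfsg.IrrCharacter G) :
    Cfsg.classInner (Cfsg.indFun (CC P) (oneSub hs f)) (ψ : G → ℂ) = (zc hs f ψ : ℂ) := by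
  rw [classInner_indFun (CC P) _ (isClassFunction_of_isIrr ψ.2), classInner_conj_symm,
    show oneSub hs f = (trivChar (CC P) : CC P → ℂ) - (lam hs f : CC P → ℂ) from rfl,
    classInner_sub_right, mult_spec, mult_spec, map_sub, Complex.conj_natCast,
    Complex.conj_natCast, zc]
  push_cast; ring

theorem lam_eq_iff {f f' : DD P} : lam hs f = lam hs f' ↔ f = f' :=
  ⟨fun h => by rw [← om_lam hs f, h, om_lam], fun h => h ▸ rfl⟩

theorem lam_one : lam hs (1 : DD P) = trivChar (CC P) :=
  Subtype.ext (funext fun c => by simp [lam_apply])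

theorem classInner_oneSub {a b : DD P} (ha : a ≠ 1) (hb : b ≠ 1) [Decidable (a = b)] :
    Cfsg.classInner (oneSub hs a) (oneSub hs b) = 1 + if a = b then 1 else 0 := by
  classical
  rw [show oneSub hs a = (trivChar (CC P) : CC P → ℂ) - (lam hs a : CC P → ℂ) from rfl,
    show oneSub hs b = (trivChar (CC P) : CC P → ℂ) - (lam hs b : CC P → ℂ) from rfl,
    classInner_sub_left, classInner_sub_right, classInner_sub_right, classInner_irr,
    classInner_irr, classInner_irr, classInner_irr, if_pos rfl, if_neg, if_neg]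
  · simp only [lam_eq_iff]; ring
  · rw [← lam_one hs, lam_eq_iff]; exact ha
  · rw [← lam_one hs, lam_eq_iff]; exact fun e => hb e.symm

theorem oneSub_cj (f : DD P) (g : NN P) (c : CC P) :
    oneSub hs f (cj P g c) = oneSub hs (g • f) c := by
  simp only [oneSub, lam_apply, piP_cj, smul_DD]

include hs in
theorem ind_oneSub_apply [Fintype (NN P)] (f : DD P) {c : CC P} (hc : piP hs c ≠ 1) :
    Cfsg.indFun (CC P) (oneSub hs f) c =
      (Nat.card (CC P) : ℂ)⁻¹ * ∑ g : NN P, oneSub hs (g • f) c := by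
  classical
  rw [Cfsg.indFun]
  congr 1
  rw [← Finset.sum_subset (Finset.subset_univ (Finset.univ.filter fun x : G => x ∈ NN P))]
  · rw [Finset.sum_subtype (p := fun x : G => x ∈ NN P) _ (by simp)]
    refine Finset.sum_congr rfl fun g _ => ?_
    rw [← oneSub_cj, ← coe_cj, extendByZero_coe]
  · intro x _ hx
    by_cases hm : x⁻¹ * (c : G) * x ∈ CC P
    · rw [extendByZero_of_mem _ _ hm]
      by_cases hd : piP hs ⟨_, hm⟩ = 1
      · simp [oneSub, lam_apply, hd]
      · exfalso
        have h := mem_NN_of_conj hs (c := c) (d := ⟨_, hm⟩) (t := x⁻¹) hc hd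
          (by simp)
        exact hx (Finset.mem_filter.2 ⟨Finset.mem_univ _, inv_mem_iff.1 h⟩)
    · exact extendByZero_of_not_mem _ _ hm

include hs in
open Classical in
/-- The inner products of the coefficient vectors. -/
theorem sum_zc_mul {a b : DD P} (ha : a ≠ 1) (hb : b ≠ 1) :
    ∑ ψ : Cfsg.IrrCharacter G, zc hs a ψ * zc hs b ψ =
      ee P + if a ∈ MulAction.orbit (NN P) b then 1 else 0 := by
  haveI : Fintype (NN P) := Fintype.ofFinite _
  apply Int.cast_injective (α := ℂ)
  have h1 : Cfsg.classInner (Cfsg.indFun (CC P) (oneSub hs a))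
      (Cfsg.indFun (CC P) (oneSub hs b)) =
      ((∑ ψ : Cfsg.IrrCharacter G, zc hs a ψ * zc hs b ψ : ℤ) : ℂ) := by
    rw [classInner_eq_sum (isClassFunction_indFun _ _)]
    push_cast
    refine Finset.sum_congr rfl fun ψ _ => ?_
    rw [classInner_ind_oneSub, classInner_ind_oneSub, map_intCast]
  rw [← h1, classInner_indFun (CC P) _ (isClassFunction_indFun _ _)]
  have h2 : ∀ c : CC P, oneSub hs a c * conj (Cfsg.indFun (CC P) (oneSub hs b) c) =
      (Nat.card (CC P) : ℂ)⁻¹ * ∑ g : NN P, oneSub hs a c * conj (oneSub hs (g • b) c) := by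
    intro c
    by_cases hc : piP hs c = 1
    · simp [oneSub, lam_apply, hc]
    · rw [ind_oneSub_apply hs b hc, map_mul, map_inv₀, Complex.conj_natCast, map_sum,
        Finset.mul_sum, Finset.mul_sum, Finset.mul_sum]
      exact Finset.sum_congr rfl fun g _ => by ring
  have hgb : ∀ g : NN P, g • b ≠ 1 := fun g e => hb (by
    calc b = g⁻¹ • (g • b) := (inv_smul_smul g b).symm
      _ = 1 := by rw [e, smul_one_DD])
  rw [Cfsg.classInner, Finset.sum_congr rfl fun c _ => h2 c, ← Finset.mul_sum, Finset.sum_comm,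
    Finset.mul_sum, Finset.mul_sum]
  have h3 : ∀ g : NN P, (Nat.card (CC P) : ℂ)⁻¹ *
      ((Nat.card (CC P) : ℂ)⁻¹ * ∑ c : CC P, oneSub hs a c * conj (oneSub hs (g • b) c)) =
      (Nat.card (CC P) : ℂ)⁻¹ * (1 + if a = g • b then 1 else 0) := fun g => by
    rw [← classInner_oneSub hs ha (hgb g)]; rfl
  rw [Finset.sum_congr rfl fun g _ => h3 g, ← Finset.mul_sum, Finset.sum_add_distrib,
    Finset.sum_boole, Finset.sum_const, Finset.card_univ, ← Nat.card_eq_fintype_card, card_NN]
  have hcount : (Finset.univ.filter fun g : NN P => a = g • b).card =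
      if a ∈ MulAction.orbit (NN P) b then Nat.card (CC P) else 0 := by
    split_ifs with h
    · obtain ⟨g₀, rfl⟩ := h
      rw [show Nat.card (CC P) = Nat.card (MulAction.stabilizer (NN P) b) by
        rw [stabilizer_eq hs hb, Nat.card_congr (Subgroup.subgroupOfEquivOfLe CC_le_NN).toEquiv],
        ← Fintype.card_subtype, ← Nat.card_eq_fintype_card]
      refine Nat.card_congr ((Equiv.mulLeft g₀⁻¹).subtypeEquiv fun g => ?_)
      rw [MulAction.mem_stabilizer_iff, Equiv.coe_mulLeft, mul_smul, inv_smul_eq_iff]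
      exact eq_comm
    · rw [Finset.card_eq_zero, Finset.filter_eq_empty_iff]
      exact fun g _ e => h ⟨g, e.symm⟩
  rw [hcount]
  have hC0 : (Nat.card (CC P) : ℂ) ≠ 0 := Nat.cast_ne_zero.2 Nat.card_pos.ne'
  split_ifs <;> push_cast <;> simp only [nsmul_eq_mul, mul_one] <;> push_cast <;> field_simp <;> ring

theorem sum_zc_deg (f : DD P) :
    ∑ ψ : Cfsg.IrrCharacter G, zc hs f ψ * (deg ψ : ℤ) = 0 := by
  apply Int.cast_injective (α := ℂ)
  push_cast
  have h := congrFun (classFunction_expansion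
    (isClassFunction_indFun (CC P) (oneSub hs f))) (1 : G)
  rw [indFun_one, Finset.sum_apply] at h
  rw [show oneSub hs f 1 = 0 by simp [oneSub, lam_apply], mul_zero] at h
  refine (Finset.sum_congr rfl fun ψ _ => ?_).trans h.symm
  rw [Pi.smul_apply, smul_eq_mul, classInner_ind_oneSub, deg_spec]

theorem zc_trivChar {f : DD P} (hf : f ≠ 1) : zc hs f (trivChar G) = 1 := by
  classical
  rw [zc, mult_trivChar, mult_trivChar, if_pos rfl, if_neg]
  · simp
  · rw [← lam_one hs, lam_eq_iff]; exact fun e => hf e.symm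

/-- The combinatorial contradiction. -/
theorem vector_contradiction {I : Type*} [Fintype I] [DecidableEq I] (e : ℤ) (he : 2 ≤ e)
    (d a b c : I → ℤ) (t : I) (T : Finset I) (t₀ : I) (htT : t ∉ T) (ht₀ : t₀ ∈ T)
    (hcard : (T.card : ℤ) = e - 1) (hdpos : ∀ i, 0 < d i) (hdt : d t = 1) (hdT : ∀ i ∈ T, d i = e + 1)
    (haa : ∑ i, a i * a i = e + 1) (hbb : ∑ i, b i * b i = e + 1) (hcc : ∑ i, c i * c i = e + 1)
    (hab : ∑ i, a i * b i = e) (hac : ∑ i, a i * c i = e) (hbc : ∑ i, b i * c i = e)
    (had : ∑ i, a i * d i = 0) (hbd : ∑ i, b i * d i = 0) (hcd : ∑ i, c i * d i = 0)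
    (haT : ∀ i ∈ insert t T, a i = 1) (hbT : ∀ i ∈ insert t T, b i = 1) (hc0 : c t₀ = 0) :
    False := by
  set J := insert t T with hJ
  have hJc : (J.card : ℤ) = e := by
    rw [hJ, Finset.card_insert_of_notMem htT]; push_cast; omega
  have hJd : ∑ i ∈ J, d i = e ^ 2 := by
    rw [hJ, Finset.sum_insert htT, hdt, Finset.sum_congr rfl hdT, Finset.sum_const, nsmul_eq_mul,
      hcard]; ring
  have key : ∀ u : I → ℤ, ∑ i, u i * u i = e + 1 → ∑ i, u i * d i = 0 →
      (∀ i ∈ J, u i = 1) → ∃ r, r ∉ J ∧ u r = -1 ∧ d r = e ^ 2 ∧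
        ∀ i, i ∉ J → i ≠ r → u i = 0 := by
    intro u huu hud huJ
    rw [← Finset.sum_add_sum_compl J, Finset.sum_congr rfl (g := fun _ => (1 : ℤ))
      (fun i hi => by rw [huJ i hi, one_mul]), Finset.sum_const, nsmul_eq_mul, mul_one, hJc] at huu
    have hrest : ∑ i ∈ Jᶜ, u i * u i = 1 := by linarith
    obtain ⟨r, hr, hne⟩ := Finset.exists_ne_zero_of_sum_ne_zero
      (s := Jᶜ) (f := fun i => u i * u i) (by rw [hrest]; exact one_ne_zero)
    have hsplit := Finset.add_sum_erase Jᶜ (fun i => u i * u i) hr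
    rw [hrest] at hsplit
    have hge : 1 ≤ u r * u r := by
      have := mul_self_nonneg (u r); omega
    have hzero : ∑ i ∈ Jᶜ.erase r, u i * u i = 0 := by
      have := Finset.sum_nonneg (s := Jᶜ.erase r) fun i _ => mul_self_nonneg (u i); linarith
    have h0 : ∀ i, i ∉ J → i ≠ r → u i = 0 := fun i hi hir => mul_self_eq_zero.1
      ((Finset.sum_eq_zero_iff_of_nonneg fun i _ => mul_self_nonneg (u i)).1 hzero i
        (Finset.mem_erase.2 ⟨hir, Finset.mem_compl.2 hi⟩))
    rw [← Finset.sum_add_sum_compl J, Finset.sum_congr rfl (g := d)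
      (fun i hi => by rw [huJ i hi, one_mul]), hJd, Finset.sum_eq_single r (fun i hi hir => by
        rw [h0 i (Finset.mem_compl.1 hi) hir, zero_mul]) (fun h => absurd hr h)] at hud
    have hu : u r = 1 ∨ u r = -1 := by
      have h1 : u r * u r = 1 := by linarith
      exact Int.eq_one_or_neg_one_of_mul_eq_one h1
    have hu1 : u r = -1 := by
      rcases hu with h | h
      · exfalso
        rw [h] at hud
        nlinarith [hdpos r]
      · exact h
    exact ⟨r, Finset.mem_compl.1 hr, hu1, by rw [hu1] at hud; linarith, h0⟩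
  obtain ⟨r, hrJ, har, hdr, ha0⟩ := key a haa had haT
  obtain ⟨r', hr'J, hbr, hdr', hb0⟩ := key b hbb hbd hbT
  have he2 : e + 1 < e ^ 2 := by nlinarith
  have hrr : r ≠ r' := by
    rintro rfl
    rw [Finset.sum_congr rfl (g := fun i => a i * a i) fun i _ => ?_] at hab
    · omega
    · by_cases hi : i ∈ J
      · rw [haT i hi, hbT i hi]
      · by_cases hir : i = r
        · rw [hir, har, hbr]
        · rw [ha0 i hi hir, zero_mul]; simp
  have ht₀J : t₀ ∈ J := Finset.mem_insert_of_mem ht₀
  -- the difference of `c` and `a`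
  set v : I → ℤ := fun i => c i - a i with hv
  have hvv : ∑ i, v i * v i = 2 := by
    simp only [hv, sub_mul, mul_sub, Finset.sum_sub_distrib]
    rw [Finset.sum_congr rfl fun i _ => mul_comm (c i) (a i), hac, haa, hcc]; ring
  have hvd : ∑ i, v i * d i = 0 := by
    simp only [hv, sub_mul, Finset.sum_sub_distrib]; rw [hcd, had]; rfl
  have hvt : v t₀ = -1 := by simp [hv, hc0, haT t₀ ht₀J]
  rw [← Finset.add_sum_erase _ _ (Finset.mem_univ t₀), hvt] at hvv hvd
  have hrest : ∑ i ∈ Finset.univ.erase t₀, v i * v i = 1 := by linarith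
  obtain ⟨σ, hσ, hσne⟩ := Finset.exists_ne_zero_of_sum_ne_zero
    (s := Finset.univ.erase t₀) (f := fun i => v i * v i) (by rw [hrest]; exact one_ne_zero)
  have hsplit := Finset.add_sum_erase (Finset.univ.erase t₀) (fun i => v i * v i) hσ
  rw [hrest] at hsplit
  have hge : 1 ≤ v σ * v σ := by
    have := mul_self_nonneg (v σ); omega
  have hzero : ∑ i ∈ (Finset.univ.erase t₀).erase σ, v i * v i = 0 := by
    have := Finset.sum_nonneg (s := (Finset.univ.erase t₀).erase σ)
      fun i _ => mul_self_nonneg (v i)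
    linarith
  have hv0 : ∀ i, i ≠ t₀ → i ≠ σ → v i = 0 := fun i hi hi' => mul_self_eq_zero.1
    ((Finset.sum_eq_zero_iff_of_nonneg fun i _ => mul_self_nonneg (v i)).1 hzero i
      (by simp [hi, hi']))
  rw [Finset.sum_eq_single σ (fun i hi hi' => by
    rw [hv0 i (Finset.ne_of_mem_erase hi) hi', zero_mul]) (fun h => absurd hσ h)] at hvd
  have hvσ : v σ = 1 := by
    rcases Int.eq_one_or_neg_one_of_mul_eq_one (show v σ * v σ = 1 by linarith) with h | h
    · exact h
    · rw [h, hdT t₀ ht₀] at hvd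
      exfalso
      nlinarith [hdpos σ]
  have hdσ : d σ = e + 1 := by rw [hvσ, hdT t₀ ht₀] at hvd; linarith
  -- the difference of `c` and `b`
  set w : I → ℤ := fun i => c i - b i with hw
  have hww : ∑ i, w i * w i = 2 := by
    simp only [hw, sub_mul, mul_sub, Finset.sum_sub_distrib]
    rw [Finset.sum_congr rfl fun i _ => mul_comm (c i) (b i), hbc, hbb, hcc]; ring
  have hrt : r ≠ t₀ := fun h => hrJ (h ▸ ht₀J)
  have hrσ : r ≠ σ := fun h => by rw [h, hdσ] at hdr; omega
  have hr'σ : r' ≠ σ := fun h => by rw [h, hdσ] at hdr'; omega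
  have hσt : σ ≠ t₀ := Finset.ne_of_mem_erase hσ
  have hwt : w t₀ = -1 := by simp [hw, hc0, hbT t₀ ht₀J]
  have hwr : w r = -1 := by
    have h1 := hv0 r hrt hrσ
    simp only [hv, har] at h1
    simp only [hw]
    rw [hb0 r hrJ hrr]
    linarith
  have hwσ : w σ = 1 := by
    have h1 : c σ = 1 + a σ := by simp only [hv] at hvσ; linarith
    simp only [hw]
    by_cases hi : σ ∈ J
    · rw [h1, haT σ hi, hbT σ hi]; ring
    · rw [h1, ha0 σ hi (Ne.symm hrσ), hb0 σ hi (Ne.symm hr'σ)]; ring
  have hle := Finset.sum_le_sum_of_subset_of_nonneg (f := fun i => w i * w i)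
    (Finset.subset_univ ({t₀, r, σ} : Finset I)) fun i _ _ => mul_self_nonneg (w i)
  rw [hww, Finset.sum_insert (by simp [Ne.symm hrt, Ne.symm hσt]),
    Finset.sum_insert (by simpa using hrσ), Finset.sum_singleton, hwt, hwr, hwσ] at hle
  omega


end CfsgLib.TISmallDegree
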