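import Cfsg.Agent.TISmallDegree.Counting
import Cfsg.Agent.PrincipalBlock.Kernel

/-!
# A character of degree `x` with `x² + 1 < |P|`

Its restriction to `C` consists of one orbit of `e` characters; if no proper normal subgroup
contains `P` then either `e = 1` and it is linear, or `e = x` and `|P| < (e + 1)²`.
-/

set_option autoImplicit false
set_option linter.style.haveILetI false
set_option linter.unusedSectionVars false

namespace CfsgLib.TISmallDegree

open CfsgLib.Characters
open CfsgLib.PrincipalBlock (trivChar trivChar_apply charKer mem_charKer)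
open scoped ComplexConjugate

universe u

variable {G : Type u} [Group G] [Fintype G] {p : ℕ} [Fact p.Prime] {P : Sylow p G} (hs : IsStar P)
  [Fintype (CC P)]

/-- No proper normal subgroup contains `P`. -/
def NoProper (P : Sylow p G) : Prop :=
  ∀ K : Subgroup G, K.Normal → (P : Subgroup G) ≤ K → K = ⊤

include hs in
/-- The characters of `P` in a non-principal character are not all trivial. -/
theorem exists_psupp_ne_one (hK : NoProper P) {ψ : Cfsg.IrrCharacter G}
    (hψ : ψ ≠ trivChar G) : ∃ f ∈ psupp hs ψ, f ≠ 1 := by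
  by_contra h
  push Not at h
  exact hψ (CfsgLib.PrincipalBlock.eq_trivChar_of_charKer_eq_top
    (hK (charKer ψ) inferInstance fun y hy => mem_charKer.2 (eq_one_of_psupp hs h ⟨y, hy⟩)))

include hs in
theorem ee_le_card_psupp {ψ : Cfsg.IrrCharacter G} {f : DD P} (hf : f ∈ psupp hs ψ) (h1 : f ≠ 1) :
    ee P ≤ (psupp hs ψ).card := by
  rw [← ncard_orbit hs h1, ← Set.ncard_coe_finset]
  exact Set.ncard_le_ncard (orbit_subset_psupp hs hf) (Finset.finite_toSet _)

include hs in
/-- The restriction of a character of small degree to `C`. -/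
theorem small_structure {χ : Cfsg.IrrCharacter G} (hne : ∃ f ∈ psupp hs χ, f ≠ 1)
    (hx : deg χ ^ 2 + 1 < Nat.card (P : Subgroup G)) :
    ee P ≤ deg χ ∧ nsq (P := P) χ = ee P ∧
      ∃ f : DD P, f ≠ 1 ∧ ((psupp hs χ : Finset (DD P)) : Set (DD P)) = MulAction.orbit (NN P) f := by
  obtain ⟨f, hf, h1⟩ := hne
  have hek := ee_le_card_psupp hs hf h1
  have hkx := card_psupp_le hs χ
  have hkN := card_psupp_le_nsq hs χ
  have hI := basic_ineq hs χ
  obtain ⟨t, ht⟩ := ee_dvd hs
  have he := ee_pos (P := P)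
  set Q := Nat.card (P : Subgroup G)
  set k := (psupp hs χ).card with hk
  set e := ee P
  have hQ : 1 ≤ Q := Nat.card_pos
  have hN : nsq (P := P) χ = e := by
    by_contra hne
    have hN1 : e + 1 ≤ nsq (P := P) χ := by omega
    have hkQ : k < Q := by nlinarith [hkx, hx]
    have h2 : Q < k * (e + 1) := by
      by_contra h3
      push Not at h3
      nlinarith [Nat.mul_le_mul_left (Q - k) hN1, Nat.sub_add_cancel hkQ.le]
    rcases hek.eq_or_lt with h3 | h3
    · rw [← h3] at h2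
      have hex : e * e ≤ deg χ ^ 2 := by rw [sq]; exact Nat.mul_le_mul (h3 ▸ hkx) (h3 ▸ hkx)
      have h4 : e * e < e * t := by
        rw [← ht]; omega
      have h5 : e * t < e * (e + 1) := by rw [← ht]; omega
      have := Nat.lt_of_mul_lt_mul_left h4
      have := Nat.lt_of_mul_lt_mul_left h5
      omega
    · have : k * (e + 1) ≤ deg χ ^ 2 := by rw [sq]; exact Nat.mul_le_mul hkx (by omega)
      omega
  refine ⟨hek.trans hkx, hN, f, h1, ?_⟩
  refine (Set.eq_of_subset_of_ncard_le (orbit_subset_psupp hs hf) ?_ (Finset.finite_toSet _)).symm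
  rw [Set.ncard_coe_finset, ncard_orbit hs h1]
  exact hkN.trans hN.le

include hs in
/-- Consequences of `small_structure` for the constituents. -/
theorem small_constituents {χ : Cfsg.IrrCharacter G} (hne : ∃ f ∈ psupp hs χ, f ≠ 1)
    (hx : deg χ ^ 2 + 1 < Nat.card (P : Subgroup G)) :
    (msupp (P := P) χ).card = ee P ∧ (∀ θ ∈ msupp (P := P) χ, mult χ θ = 1) ∧
      (∀ θ ∈ msupp (P := P) χ, ∀ θ' ∈ msupp (P := P) χ, om hs θ = om hs θ' → θ = θ') ∧
      (∀ θ ∈ msupp (P := P) χ, ∀ θ' ∈ msupp (P := P) χ, ∃ g : NN P, cjChar g θ = θ') := by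
  classical
  obtain ⟨-, hN, f, h1, horb⟩ := small_structure hs hne hx
  have hk : (psupp hs χ).card = ee P := by
    rw [← Set.ncard_coe_finset, horb, ncard_orbit hs h1]
  have hle : (msupp (P := P) χ).card ≤ ∑ θ ∈ msupp (P := P) χ, mult χ θ ^ 2 := by
    rw [Finset.card_eq_sum_ones]
    exact Finset.sum_le_sum fun θ hθ => Nat.one_le_iff_ne_zero.2 (pow_ne_zero _ (mem_msupp.1 hθ))
  have hsum : ∑ θ ∈ msupp (P := P) χ, mult χ θ ^ 2 = ee P := by
    rw [← hN, nsq]
    exact Finset.sum_subset (Finset.subset_univ _) fun θ _ hθ => by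
      rw [mem_msupp, not_not] at hθ; rw [hθ]; rfl
  have hcard : (msupp (P := P) χ).card = ee P :=
    le_antisymm (hle.trans hsum.le) (hk ▸ Finset.card_image_le)
  have hinj : ∀ θ ∈ msupp (P := P) χ, ∀ θ' ∈ msupp (P := P) χ, om hs θ = om hs θ' → θ = θ' :=
    fun θ hθ θ' hθ' e => Finset.card_image_iff.1 (hk.trans hcard.symm) hθ hθ' e
  refine ⟨hcard, fun θ hθ => ?_, hinj, fun θ hθ θ' hθ' => ?_⟩
  · by_contra h
    have h2 : 1 < mult χ θ ^ 2 := Nat.one_lt_pow two_ne_zero (by have := mem_msupp.1 hθ; omega)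
    have := Finset.sum_lt_sum (s := msupp (P := P) χ) (f := fun _ => 1)
      (g := fun θ => mult χ θ ^ 2)
      (fun i hi => Nat.one_le_iff_ne_zero.2 (pow_ne_zero _ (mem_msupp.1 hi))) ⟨θ, hθ, h2⟩
    rw [← Finset.card_eq_sum_ones, hcard, hsum] at this
    exact this.false
  · have hm : ∀ η ∈ msupp (P := P) χ, om hs η ∈ MulAction.orbit (NN P) f := fun η hη => by
      rw [← horb, Finset.mem_coe]; exact Finset.mem_image_of_mem _ hη
    obtain ⟨g, hg⟩ : om hs θ' ∈ MulAction.orbit (NN P) (om hs θ) :=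
      (MulAction.orbit_eq_iff.2 (hm θ hθ)).symm ▸ hm θ' hθ'
    refine ⟨g, hinj _ (by rw [mem_msupp, mult_cjChar]; exact mem_msupp.1 hθ) _ hθ' ?_⟩
    rw [om_cjChar]; exact hg

include hs in
/-- The case `e = 1`. -/
theorem linear_of_ee_one (hK : NoProper P) {χ : Cfsg.IrrCharacter G} (hχ : χ ≠ trivChar G)
    (hx : deg χ ^ 2 + 1 < Nat.card (P : Subgroup G)) (he : ee P = 1) : deg χ = 1 := by
  classical
  obtain ⟨hcard, hmult, -, -⟩ := small_constituents hs (exists_psupp_ne_one hs hK hχ) hx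
  rw [he, Finset.card_eq_one] at hcard
  obtain ⟨θ, hθ⟩ := hcard
  have hr : ∀ c : CC P, (χ : G → ℂ) c = (θ : CC P → ℂ) c := fun c => by
    rw [restrict_eq, Finset.sum_eq_single θ (fun η _ hη => ?_) (by simp),
      hmult θ (by simp [hθ]), Nat.cast_one, one_mul]
    rw [not_not.1 fun h => hη (Finset.mem_singleton.1 (hθ ▸ mem_msupp.2 h)), Nat.cast_zero,
      zero_mul]
  have hd := hr 1
  rw [OneMemClass.coe_one, deg_spec] at hd
  obtain ⟨n, ρ, hirr, hρ⟩ := χ.2
  have hn : (Module.finrank ℂ (Fin n → ℂ) : ℂ) = deg χ := by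
    rw [← Representation.char_one ρ, hρ, deg_spec]
  have hn' : Module.finrank ℂ (Fin n → ℂ) = deg χ := Nat.cast_injective hn
  let K : Subgroup G :=
    { carrier := {g | ∃ ω : ℂ, ρ g = ω • LinearMap.id}
      one_mem' := ⟨1, by rw [map_one, one_smul]; rfl⟩
      mul_mem' := by
        rintro a b ⟨ω, hω⟩ ⟨ω', hω'⟩
        exact ⟨ω * ω', by rw [map_mul, hω, hω', smul_mul_smul_comm, ← Module.End.one_eq_id,
          one_mul]⟩
      inv_mem' := by
        rintro a ⟨ω, hω⟩
        obtain ⟨k, hk⟩ : ∃ k : ℕ, a⁻¹ = a ^ k := ⟨orderOf a - 1, by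
          rw [inv_eq_iff_mul_eq_one, ← pow_succ', Nat.sub_add_cancel (orderOf_pos a),
            pow_orderOf_eq_one]⟩
        exact ⟨ω ^ k, by rw [hk, map_pow, hω, smul_pow, ← Module.End.one_eq_id, one_pow]⟩ }
  have hKn : K.Normal := ⟨by
    rintro a ⟨ω, hω⟩ g
    refine ⟨ω, ?_⟩
    rw [map_mul, map_mul, hω, ← Module.End.one_eq_id, mul_smul_comm, mul_one, smul_mul_assoc,
      ← map_mul, mul_inv_cancel, map_one]⟩
  have hPK : (P : Subgroup G) ≤ K := by
    intro y hy
    have hval : ρ.character y = (om hs θ ⟨y, hy⟩ : ℂ) * deg χ := by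
      rw [hρ, hr ⟨y, le_CC hs hy⟩, hd, ← om_spec hs θ 1 ⟨y, hy⟩, one_mul]
      rfl
    obtain ⟨ω, hω, -⟩ := exists_scalar_of_norm_char_eq ρ y (by
      rw [hval, norm_mul, norm_DD, one_mul, Complex.norm_natCast, hn'])
    exact ⟨ω, hω⟩
  have htop := hK K hKn hPK
  have hnorm : ∀ g : G, (χ : G → ℂ) g * conj ((χ : G → ℂ) g) = (deg χ : ℂ) ^ 2 := by
    intro g
    obtain ⟨ω, hω⟩ : g ∈ K := htop ▸ Subgroup.mem_top g
    have hone : ω ^ orderOf g = 1 := by
      haveI := hirr
      haveI := nontrivial_of_isIrreducible ρ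
      obtain ⟨v, hv⟩ := exists_ne (0 : Fin n → ℂ)
      have e := LinearMap.congr_fun (congrArg (fun T => T ^ orderOf g) hω) v
      rw [← map_pow, pow_orderOf_eq_one, map_one, smul_pow, ← Module.End.one_eq_id, one_pow] at e
      exact (smul_left_injective ℂ hv (by simpa using e.symm))
    have hnorm : ‖ω‖ = 1 := Complex.norm_eq_one_of_pow_eq_one hone (orderOf_pos g).ne'
    rw [← hρ, Complex.mul_conj', Representation.character, hω, map_smul,
      show (LinearMap.id : (Fin n → ℂ) →ₗ[ℂ] (Fin n → ℂ)) = 1 from rfl, LinearMap.trace_one,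
      smul_eq_mul, norm_mul, hnorm, one_mul, Complex.norm_natCast, hn', Complex.ofReal_natCast]
  have h := classInner_isIrr_self χ.2
  rw [Cfsg.classInner, Finset.sum_congr rfl fun g _ => hnorm g, Finset.sum_const, Finset.card_univ,
    ← Nat.card_eq_fintype_card, nsmul_eq_mul, inv_mul_cancel_left₀ natCard_ne_zero] at h
  exact Nat.eq_one_of_mul_eq_one_left (m := deg χ) (by rw [← sq]; exact_mod_cast h)

/-! ### The constituents of `χ χ̄` -/

/-- The square of the absolute value of `χ`. -/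
noncomputable def absSq (χ : Cfsg.IrrCharacter G) : G → ℂ :=
  fun g => (χ : G → ℂ) g * conj ((χ : G → ℂ) g)

theorem isCharacter_absSq (χ : Cfsg.IrrCharacter G) : Cfsg.IsCharacter G (absSq χ) :=
  isCharacter_mul (isCharacter_of_isIrr χ.2) (isCharacter_conj (isCharacter_of_isIrr χ.2))

/-- The multiplicity of `ψ` in `χ χ̄`. -/
noncomputable def cW (χ ψ : Cfsg.IrrCharacter G) : ℕ :=
  (classInner_character_irr (isCharacter_absSq χ) ψ.2).choose

theorem cW_spec (χ ψ : Cfsg.IrrCharacter G) :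
    Cfsg.classInner (absSq χ) (ψ : G → ℂ) = cW χ ψ :=
  (classInner_character_irr (isCharacter_absSq χ) ψ.2).choose_spec

theorem absSq_eq (χ : Cfsg.IrrCharacter G) (g : G) :
    absSq χ g = ∑ ψ : Cfsg.IrrCharacter G, (cW χ ψ : ℂ) * (ψ : G → ℂ) g := by
  have h := congrFun (character_expansion (isCharacter_absSq χ)) g
  rw [Finset.sum_apply] at h
  refine h.trans (Finset.sum_congr rfl fun ψ _ => ?_)
  rw [Pi.smul_apply, smul_eq_mul, cW_spec]

theorem cW_trivChar (χ : Cfsg.IrrCharacter G) : cW χ (trivChar G) = 1 := by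
  apply Nat.cast_injective (R := ℂ)
  rw [← cW_spec, Nat.cast_one, ← classInner_isIrr_self χ.2]
  simp only [Cfsg.classInner, trivChar_apply, map_one, mul_one]
  rfl

theorem classInner_absSq_restrict (χ : Cfsg.IrrCharacter G) (θ : Cfsg.IrrCharacter (CC P)) :
    Cfsg.classInner (fun c : CC P => absSq χ c) (θ : CC P → ℂ) =
      (∑ ψ : Cfsg.IrrCharacter G, cW χ ψ * mult ψ θ : ℕ) := by
  have h : (fun c : CC P => absSq χ c) =
      ∑ ψ : Cfsg.IrrCharacter G, (cW χ ψ : ℂ) • fun c : CC P => (ψ : G → ℂ) c := by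
    funext c
    rw [absSq_eq, Finset.sum_apply]
    exact Finset.sum_congr rfl fun ψ _ => rfl
  rw [h, classInner_sum_left]
  push_cast
  exact Finset.sum_congr rfl fun ψ _ => by rw [classInner_smul_left, mult_spec]

include hs in
theorem classInner_absSq_eq {χ : Cfsg.IrrCharacter G}
    (h1 : ∀ θ ∈ msupp (P := P) χ, mult χ θ = 1) (θ : Cfsg.IrrCharacter (CC P)) :
    Cfsg.classInner (fun c : CC P => absSq χ c) (θ : CC P → ℂ) =
      ∑ ij ∈ msupp (P := P) χ ×ˢ msupp (P := P) χ, Cfsg.classInner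
        (fun c => (ij.1 : CC P → ℂ) c * conj ((ij.2 : CC P → ℂ) c)) (θ : CC P → ℂ) := by
  rw [← classInner_sum_left]
  congr 1
  funext c
  have hr : (χ : G → ℂ) c = ∑ η ∈ msupp (P := P) χ, (η : CC P → ℂ) c := by
    rw [restrict_eq, ← Finset.sum_subset (Finset.subset_univ (msupp (P := P) χ))
      fun η _ hη => by rw [not_not.1 fun h => hη (mem_msupp.2 h)]; simp]
    exact Finset.sum_congr rfl fun η hη => by rw [h1 η hη, Nat.cast_one, one_mul]
  rw [absSq, hr, map_sum, Finset.sum_mul_sum, ← Finset.sum_product', Finset.sum_apply]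

include hs in
theorem om_eq_of_classInner {i j θ : Cfsg.IrrCharacter (CC P)}
    (h : Cfsg.classInner (fun c => (i : CC P → ℂ) c * conj ((j : CC P → ℂ) c)) (θ : CC P → ℂ) ≠ 0) :
    om hs θ = om hs i * (om hs j)⁻¹ := by
  refine MonoidHom.ext fun y => Units.ext ?_
  set t : ℂ := (om hs i y : ℂ) * conj (om hs j y : ℂ) * conj (om hs θ y : ℂ) with ht
  have hS : t * Cfsg.classInner (fun c => (i : CC P → ℂ) c * conj ((j : CC P → ℂ) c))
      (θ : CC P → ℂ) =
      Cfsg.classInner (fun c => (i : CC P → ℂ) c * conj ((j : CC P → ℂ) c)) (θ : CC P → ℂ) := by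
    rw [Cfsg.classInner, mul_left_comm, Finset.mul_sum]
    congr 1
    refine Fintype.sum_equiv (Equiv.mulRight (incl hs y)) _ _ fun c => ?_
    rw [Equiv.coe_mulRight, om_spec, om_spec, om_spec, map_mul, map_mul, ht]
    ring
  have ht1 : t = 1 := by
    by_contra hne
    exact h (by
      have e : (t - 1) * Cfsg.classInner (fun c => (i : CC P → ℂ) c * conj ((j : CC P → ℂ) c))
          (θ : CC P → ℂ) = 0 := by rw [sub_mul, hS, one_mul, sub_self]
      exact (mul_eq_zero.1 e).resolve_left (sub_ne_zero.2 hne))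
  have hinv : ∀ f : DD P, conj (f y : ℂ) = ((f y : ℂ))⁻¹ := fun f =>
    (Complex.inv_eq_conj (norm_DD f y)).symm
  rw [ht, hinv, hinv, mul_inv_eq_one₀ (Units.ne_zero _)] at ht1
  rw [← ht1]
  simp

include hs in
/-- The characters of `P` in the constituents of `χ χ̄` are quotients of those in `χ`. -/
theorem psupp_constituent_subset [DecidableEq (DD P)] {χ ψ : Cfsg.IrrCharacter G}
    (h1 : ∀ θ ∈ msupp (P := P) χ, mult χ θ = 1) (hψ : cW χ ψ ≠ 0) :
    psupp hs ψ ⊆ insert 1
      ((msupp (P := P) χ).offDiag.image fun ij => om hs ij.1 * (om hs ij.2)⁻¹) := by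
  classical
  intro f hf
  obtain ⟨θ, hθ, rfl⟩ := (mem_psupp hs).1 hf
  have hne : Cfsg.classInner (fun c : CC P => absSq χ c) (θ : CC P → ℂ) ≠ 0 := by
    rw [classInner_absSq_restrict, Nat.cast_ne_zero, Ne, Finset.sum_eq_zero_iff]
    exact fun h0 => mul_ne_zero hψ hθ (h0 ψ (Finset.mem_univ _))
  rw [classInner_absSq_eq hs h1] at hne
  obtain ⟨⟨i, j⟩, hij, hne'⟩ := Finset.exists_ne_zero_of_sum_ne_zero hne
  rw [Finset.mem_product] at hij
  rcases eq_or_ne i j with rfl | hd
  · rw [om_eq_of_classInner hs hne']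
    dsimp only
    rw [show om hs i * (om hs i)⁻¹ = 1 from MonoidHom.ext fun y => by simp]
    exact Finset.mem_insert_self _ _
  · exact Finset.mem_insert_of_mem (Finset.mem_image.2
      ⟨(i, j), Finset.mem_offDiag.2 ⟨hij.1, hij.2, hd⟩, (om_eq_of_classInner hs hne').symm⟩)

include hs in
theorem sum_cW_mult_one {χ : Cfsg.IrrCharacter G}
    (h1 : ∀ θ ∈ msupp (P := P) χ, mult χ θ = 1) :
    ∑ ψ : Cfsg.IrrCharacter G, cW χ ψ * mult ψ (trivChar (CC P)) = (msupp (P := P) χ).card := by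
  classical
  apply Nat.cast_injective (R := ℂ)
  rw [← classInner_absSq_restrict, classInner_absSq_eq hs h1, Finset.sum_product,
    Finset.card_eq_sum_ones, Nat.cast_sum]
  refine Finset.sum_congr rfl fun i hi => ?_
  have h : ∀ j : Cfsg.IrrCharacter (CC P), Cfsg.classInner
      (fun c => (i : CC P → ℂ) c * conj ((j : CC P → ℂ) c)) (trivChar (CC P) : CC P → ℂ) =
      if i = j then 1 else 0 := fun j => by
    rw [← classInner_irr i j]
    simp [Cfsg.classInner]
  rw [Finset.sum_congr rfl fun j _ => h j, Finset.sum_ite_eq, if_pos hi, Nat.cast_one]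

theorem mult_trivChar (θ : Cfsg.IrrCharacter (CC P)) [Decidable (trivChar (CC P) = θ)] :
    mult (trivChar G) θ = if trivChar (CC P) = θ then 1 else 0 := by
  apply Nat.cast_injective (R := ℂ)
  rw [← mult_spec, Nat.cast_ite, Nat.cast_one, Nat.cast_zero, ← classInner_irr (trivChar (CC P)) θ]
  rfl

include hs in
theorem om_trivChar : om hs (trivChar (CC P)) = 1 := om_unique hs fun c y => by simp

include hs in
/-- For `e ≥ 2` the degree is `e` and `|P| < (e + 1)²`. -/
theorem card_lt_of_two_le (hK : NoProper P) {χ : Cfsg.IrrCharacter G} (hχ : χ ≠ trivChar G)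
    (hx : deg χ ^ 2 + 1 < Nat.card (P : Subgroup G)) (he : 2 ≤ ee P) :
    deg χ = ee P ∧ Nat.card (P : Subgroup G) < (ee P + 1) ^ 2 := by
  classical
  have hne := exists_psupp_ne_one hs hK hχ
  obtain ⟨hex, -, -⟩ := small_structure hs hne hx
  obtain ⟨hcard, hmult, -, -⟩ := small_constituents hs hne hx
  have hQ : Nat.card (P : Subgroup G) < (ee P + 1) ^ 2 := by
    obtain ⟨ψ, hψ, hψt⟩ : ∃ ψ, cW χ ψ * mult ψ (trivChar (CC P)) ≠ 0 ∧ ψ ≠ trivChar G := by
      by_contra hcon
      push Not at hcon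
      have h := sum_cW_mult_one hs hmult
      rw [Finset.sum_eq_single (trivChar G) (fun ψ _ hne' => by
          by_contra h0; exact hne' (hcon ψ h0)) (by simp),
        cW_trivChar, mult_trivChar, if_pos rfl, hcard] at h
      omega
    obtain ⟨hcψ, hmψ⟩ := mul_ne_zero_iff.1 hψ
    have h1mem : (1 : DD P) ∈ psupp hs ψ := (mem_psupp hs).2 ⟨_, hmψ, om_trivChar hs⟩
    obtain ⟨f, hf, hf1⟩ := exists_psupp_ne_one hs hK hψt
    have hk1 : ee P + 1 ≤ (psupp hs ψ).card := by
      rw [← ncard_orbit hs hf1, ← Set.ncard_coe_finset,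
        ← Set.ncard_insert_of_notMem (a := (1 : DD P)) (fun h => hf1 ?_) (Set.toFinite _)]
      · exact Set.ncard_le_ncard (Set.insert_subset h1mem (orbit_subset_psupp hs hf))
          (Finset.finite_toSet _)
      · obtain ⟨g, hg⟩ := h
        calc f = g⁻¹ • (g • f) := (inv_smul_smul g f).symm
          _ = 1 := by rw [show g • f = 1 from hg, smul_one_DD]
    have hk2 : (psupp hs ψ).card ≤ ee P * ee P - ee P + 1 := by
      refine (Finset.card_le_card (psupp_constituent_subset hs hmult hcψ)).trans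
        ((Finset.card_insert_le _ _).trans (Nat.add_le_add_right ?_ 1))
      refine Finset.card_image_le.trans ?_
      rw [Finset.offDiag_card, hcard]
    have hI := basic_ineq hs ψ
    have hkN := card_psupp_le_nsq hs ψ
    by_contra hQ
    push Not at hQ
    set Q := Nat.card (P : Subgroup G)
    set k := (psupp hs ψ).card
    set e := ee P
    have hee : e ≤ e * e := Nat.le_mul_self e
    have hk2' : k + e ≤ e * e + 1 := by omega
    have hkQ : k ≤ Q := by nlinarith
    obtain ⟨s, hs'⟩ := Nat.le.dest hk1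
    obtain ⟨w, hw⟩ := Nat.le.dest hkN
    obtain ⟨v, hv⟩ := Nat.le.dest hQ
    obtain ⟨r, hr⟩ := Nat.le.dest hk2'
    rw [← hw] at hI
    nlinarith [Nat.zero_le (s * r), Nat.zero_le (w * (Q - k)), Nat.sub_add_cancel hkQ,
      Nat.zero_le (v * (k - e))]
  refine ⟨le_antisymm ?_ hex, hQ⟩
  by_contra h
  push Not at h
  have : (ee P + 1) ^ 2 ≤ deg χ ^ 2 := Nat.pow_le_pow_left h 2
  omega

end CfsgLib.TISmallDegree
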