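import Cfsg.Agent.TISmallDegree.Small
import Cfsg.Agent.Blocks.RegularSupport

/-!
# A character without fixed points of `P` vanishes on `N(P) ∖ C(P)`
-/

set_option autoImplicit false
set_option linter.style.haveILetI false
set_option linter.unusedSectionVars false

namespace CfsgLib.TISmallDegree

open CfsgLib.Characters
open scoped ComplexConjugate

universe u

variable {G : Type u} [Group G] [Fintype G] {p : ℕ} [Fact p.Prime] {P : Sylow p G} (hs : IsStar P)
  [Fintype (CC P)]

theorem sum_DD_eq_zero [Fintype (P : Subgroup G)] {f : DD P} (hf : f ≠ 1) :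
    ∑ y : (P : Subgroup G), (f y : ℂ) = 0 := by
  obtain ⟨z, hz⟩ : ∃ z, f z ≠ 1 := by
    by_contra h
    push Not at h
    exact hf (MonoidHom.ext h)
  have h1 : (f z : ℂ) * ∑ y : (P : Subgroup G), (f y : ℂ) = ∑ y : (P : Subgroup G), (f y : ℂ) := by
    rw [Finset.mul_sum]
    exact Fintype.sum_equiv (Equiv.mulLeft z) _ _ fun y => by simp
  by_contra h0
  exact hz (Units.ext ((mul_eq_right₀ h0).mp h1))

include hs in
theorem sum_char_P_eq_zero [Fintype (P : Subgroup G)] {χ : Cfsg.IrrCharacter G}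
    (h1 : (1 : DD P) ∉ psupp hs χ) : ∑ y : (P : Subgroup G), (χ : G → ℂ) y = 0 := by
  have h : ∀ y : (P : Subgroup G), (χ : G → ℂ) y =
      ∑ θ : Cfsg.IrrCharacter (CC P), (mult χ θ : ℂ) * (θ : CC P → ℂ) 1 * (om hs θ y : ℂ) :=
    fun y => by
      rw [show ((y : G) : G) = ((incl hs y : CC P) : G) from rfl, restrict_eq]
      refine Finset.sum_congr rfl fun θ _ => ?_
      rw [← one_mul (incl hs y), om_spec hs]; ring
  rw [Finset.sum_congr rfl fun y _ => h y, Finset.sum_comm]
  refine Finset.sum_eq_zero fun θ _ => ?_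
  rw [← Finset.mul_sum]
  by_cases hm : mult χ θ = 0
  · simp [hm]
  · rw [sum_DD_eq_zero fun e => h1 ((mem_psupp hs).2 ⟨θ, hm, e⟩), mul_zero]

include hs in
/-- A character without fixed points of `P` vanishes on `N(P) ∖ C(P)`. -/
theorem apply_eq_zero {χ : Cfsg.IrrCharacter G} (h1 : (1 : DD P) ∉ psupp hs χ) (g : NN P)
    (hg : (g : G) ∉ CC P) : (χ : G → ℂ) g = 0 := by
  haveI : Fintype (P : Subgroup G) := Fintype.ofFinite _
  let Δ : ↥(P : Subgroup G) → ↥(P : Subgroup G) := fun z => cjP P g z * z⁻¹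
  have hinj : Function.Injective Δ := by
    intro y z hyz
    by_contra hne
    have hfix : cjP P g (z⁻¹ * y) = z⁻¹ * y := by
      have e : cjP P g y * y⁻¹ = cjP P g z * z⁻¹ := hyz
      rw [map_mul, map_inv, inv_mul_eq_iff_eq_mul]
      calc cjP P g y = cjP P g y * y⁻¹ * y := (inv_mul_cancel_right _ _).symm
        _ = cjP P g z * (z⁻¹ * y) := by rw [e, mul_assoc]
    have hw : ((z⁻¹ * y : (P : Subgroup G)) : G) ≠ 1 := by
      rw [Ne, OneMemClass.coe_eq_one, inv_mul_eq_one]
      exact fun e => hne e.symm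
    refine hg (?_ : (g : G) ∈ Subgroup.centralizer ((P : Subgroup G) : Set G))
    rw [← hs _ (z⁻¹ * y).2 hw]
    refine Subgroup.mem_centralizer_singleton_iff.2 ?_
    have e := congrArg Subtype.val hfix
    rw [coe_cjP] at e
    conv_lhs => rw [← e]
    group
  have hconst : ∀ y : (P : Subgroup G), (χ : G → ℂ) ((g : G) * y) = (χ : G → ℂ) g := by
    intro y
    obtain ⟨z, rfl⟩ := Finite.surjective_of_injective hinj y
    have h := isClassFunction_of_isIrr χ.2 (g : G) (z : G)
    rw [← h]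
    congr 1
    simp only [Δ, Subgroup.coe_mul, Subgroup.coe_inv, coe_cjP]
    group
  obtain ⟨n, ρ, -, hρ⟩ := χ.2
  set S : Module.End ℂ (Fin n → ℂ) := ∑ y : (P : Subgroup G), ρ (y : G) with hS
  set Q : ℂ := (Fintype.card (P : Subgroup G) : ℂ) with hQ
  have hQ0 : Q ≠ 0 := Nat.cast_ne_zero.2 Fintype.card_ne_zero
  have hSS : S * S = Q • S := by
    rw [hS, Finset.sum_mul]
    rw [Finset.sum_congr rfl (g := fun _ => S) fun y _ => ?_]
    · rw [Finset.sum_const, Finset.card_univ, ← Nat.cast_smul_eq_nsmul ℂ]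
    · rw [Finset.mul_sum]
      exact Fintype.sum_equiv (Equiv.mulLeft y) _ _ fun z => by simp [map_mul]
  have hid : (Q⁻¹ • S) * (Q⁻¹ • S) = Q⁻¹ • S := by
    rw [smul_mul_smul_comm, hSS, smul_smul]
    congr 1
    field_simp
  have htr : LinearMap.trace ℂ (Fin n → ℂ) S = 0 := by
    rw [hS, map_sum]
    refine Eq.trans (Finset.sum_congr rfl fun y _ => ?_) (sum_char_P_eq_zero hs h1)
    rw [← hρ]; rfl
  have hp : LinearMap.IsProj (LinearMap.range (Q⁻¹ • S)) (Q⁻¹ • S) :=
    ⟨fun x => LinearMap.mem_range_self _ x, fun x ⟨y, hy⟩ => by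
      rw [← hy, ← Module.End.mul_apply, hid]⟩
  have hr := LinearMap.IsProj.trace hp
  rw [map_smul, htr, smul_zero, eq_comm, Nat.cast_eq_zero, Submodule.finrank_eq_zero,
    LinearMap.range_eq_bot, smul_eq_zero] at hr
  have hS0 : S = 0 := hr.resolve_left (inv_ne_zero hQ0)
  have hsum : ∑ y : (P : Subgroup G), (χ : G → ℂ) ((g : G) * y) = 0 := by
    have e : ∀ y : (P : Subgroup G),
        (χ : G → ℂ) ((g : G) * y) = LinearMap.trace ℂ _ (ρ (g : G) * ρ (y : G)) := fun y => by
      rw [← hρ, ← map_mul]; rfl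
    rw [Finset.sum_congr rfl fun y _ => e y, ← map_sum, ← Finset.mul_sum, ← hS, hS0, mul_zero,
      map_zero]
  rw [Finset.sum_congr rfl fun y _ => hconst y, Finset.sum_const, Finset.card_univ,
    ← Nat.cast_smul_eq_nsmul ℂ, smul_eq_zero] at hsum
  exact hsum.resolve_left hQ0

end CfsgLib.TISmallDegree
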